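import Cfsg.Agent.Omega.OM.PT.Pc

/-!
# Two types, no swap: `X_u` centralises `N_a` for `a ~ u` (helper918, TEXT W2 #24006 (5), (7); port of 223's `EThree/NrOne`)

`NrH Z U j` : the one-sided hypotheses (`a` of type `j + 1`, points of `N_a` of type `j`), all `q`; no FIX, no
irreducibility, no `RegX`.  The last one, `OneC`, comes from LEMMA 0 (`NrB.oneC_of_L0`) or from a 2-group `B` whose fixed
points on `N_{j+1}` lie in `Z j` (`NrB.oneC_of_B`).

* `NrH.ng` : the geometry of `N_a`, if `X_c` moves `N_a` (`a ~ c`);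
* `NrH.two_common` : two common neighbours `c ≠ r` of `a`, `b` imply `[N_a, N_b] = 1`;
* **`NrH.nr_one`** : `X_c` centralises `N_a` for `a ~ c`, `a` of type `j + 1`;
* **`pc`** : both types.
-/

set_option autoImplicit false
set_option linter.unusedSectionVars false

namespace Cfsg.Agent.Omega.OM.PT.NrOne

open Subgroup Cfsg Cfsg.Agent.ZN Cfsg.Agent.Omega.MinPar
open Cfsg.Agent.Omega.OM.PT Cfsg.Agent.Omega.OM.PT.Pc
open Cfsg.Agent.Omega.OM.PG (HH QQ HH_conj QQ_conj conj_inv_conj inv_conj_conj)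
open Cfsg.Agent.Omega.OM.PG.Peel (mem_cent_conj)
open Cfsg.Agent.Omega.NO3S.EThree.ExactA (eab_iff eab_sup eab_mono)
open Cfsg.Agent.Omega.NoFF.Basic (conj_conj mem_conj conj_le_iff conj_le_centralizer comm_symm comm_mono)
open Cfsg.Agent.Omega.NOThreeL.Pair (conj_eq_of_mem)
open Cfsg.Agent.Omega.OmThm.Grp (GG LnG Mv)
open Cfsg.Agent.Omega.OM.PT.NgGeo (NG Cp cp_of_conn cp_of_fix)
open scoped Pointwise

universe u

variable {G : Type u} [Group G]

/-- LEMMA 0 -/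
def L0 (Z : Fin 2 → Subgroup G) (i : Fin 2) : Prop :=
  ∀ K : Subgroup G, K ≤ centralizer (Z i : Set G) → HH (Z i) ≤ normalizer (K : Set G) →
    (∃ x ∈ K, IsPGroup 2 (zpowers x) ∧ x ∉ centralizer (NN Z (Z i) : Set G)) →
    ∀ u u' : Subgroup G, Adj Z (Z i) u → Adj Z (Z i) u' → ∃ x ∈ K, MulAut.conj x • u = u'

/-- **The hypotheses of PC, one-sided**, without the last one. -/
structure NrB (Z U : Fin 2 → Subgroup G) (j : Fin 2) : Prop where
  P : PP Z U
  F : XF Z (XW Z U)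
  ti : TIp Z
  com : ∀ a u : Subgroup G, Adj Z a u → Com Z a u
  tr : Tr Z U j
  sur : Sur Z U j
  pts : Pts Z U j
  cardU : Nat.card (U j) = Nat.card (Z j) * Nat.card (Z j)
  core : CoreP Z (j + 1)

/-- one class of points in `N_a` -/
def OneC (Z U : Fin 2 → Subgroup G) (j : Fin 2) : Prop :=
  ¬ XW Z U (Z j) ≤ centralizer (NN Z (Z (j + 1)) : Set G) → ∀ p x : Subgroup G, Adj Z (Z (j + 1)) p →
    Adj Z (Z (j + 1)) x → Cp {p | Adj Z (Z (j + 1)) p} (XW Z U) p x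

/-- **The hypotheses of PC, one-sided.** -/
structure NrH (Z U : Fin 2 → Subgroup G) (j : Fin 2) : Prop extends NrB Z U j where
  one : OneC Z U j

namespace NrB

variable {Z U : Fin 2 → Subgroup G} {j : Fin 2} (D : NrB Z U j)
include D

theorem card_pt {a c : Subgroup G} (h : Aj Z j a c) : Nat.card c = Nat.card (Z j) := by
  obtain ⟨k, -, rfl⟩ := h
  exact ZN.ChoiceBase.card_cj k _

theorem ti' {a b : Subgroup G} (ha : IsPt Z a) (hb : IsPt Z b) {v : G} (h1 : v ∈ a) (h2 : v ∈ b) (hv : v ≠ 1) :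
    a = b := by
  by_contra hne
  exact hv (ti_one D.ti ha hb hne h1 h2)

theorem NQ {a c : Subgroup G} (h : Adj Z a c) : NN Z a ≤ QQ c :=
  D.P.f3 h.symm (D.P.NN_le_QQ h.pt) (D.com _ _ h)

theorem NN_cent {a c : Subgroup G} (h : Adj Z a c) {b : Subgroup G} (h' : Adj Z b c) :
    NN Z a ≤ centralizer (b : Set G) := (D.NQ h).trans (D.P.QQ_le_cent_of_adj h')

/-- `N_a` centralises `c`, `a ~ c` -/
theorem NN_cent' {a c : Subgroup G} (h : Adj Z a c) : NN Z a ≤ centralizer (c : Set G) :=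
  (D.P.NN_comm h.pt).trans (centralizer_le h.le_NN)

theorem NN_com {a : Subgroup G} (ha : IsPt Z a) {x y : G} (hx : x ∈ NN Z a) (hy : y ∈ NN Z a) : x * y = y * x :=
  mem_centralizer_iff.1 (D.P.NN_comm ha hy) x hx

theorem cent_of {c : Subgroup G} (hc : IsPt Z c) {x y : G} (hx : x ∈ XW Z U c) (hy : y ∈ XW Z U c) : x * y = y * x :=
  mem_centralizer_iff.1 ((eab_iff.1 (D.F.eab c hc)).1 hy) x hx

/-- the neighbours of `a` -/
theorem aj {a c x : Subgroup G} (h : Aj Z j a c) (hx : Adj Z a x) : Aj Z j a x := by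
  obtain ⟨g, hg, -⟩ := h
  exact adj_form D.P ⟨g, hg⟩ hx

variable [Finite G]

theorem qq : 2 ≤ Nat.card (Z j) := by
  have hcZ : Nat.card (Z j) ≠ 1 := fun h => D.P.ne j (Subgroup.card_eq_one.1 h)
  have hcZ0 : 0 < Nat.card (Z j) := Nat.card_pos
  omega

/-- the line on `c` in `N_a` -/
theorem exists_line {a c : Subgroup G} (h : Aj Z j a c) : ∃ V : Subgroup G, LnOn Z U c V ∧ c ≤ V ∧ V ≤ NN Z a ∧
    Nat.card V = Nat.card (Z j) * Nat.card (Z j) ∧ (∀ v ∈ V, v ≠ 1 → ∃ s, Aj Z j a s ∧ s ≤ V ∧ v ∈ s) ∧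
    ∀ s, Aj Z j a s → s ≤ V → LnOn Z U s V := by
  obtain ⟨k, rfl, rfl⟩ := h
  refine ⟨MulAut.conj k • U j, ⟨j, k, rfl, rfl⟩, conj_le_iff.2 (D.P.ZU j), ?_, ?_, ?_, ?_⟩
  · rw [NN_conj]
    exact conj_le_iff.2 (D.P.UN j)
  · exact (ZN.ChoiceBase.card_cj _ _).trans D.cardU
  · rintro _ ⟨x, hx, rfl⟩ hv1
    have hx1 : x ≠ 1 := by
      rintro rfl
      exact hv1 (by simp)
    obtain ⟨m, hm, hxm⟩ := D.pts x hx hx1
    have h1 : MulAut.conj (k * m) • Z j ≤ MulAut.conj k • U j := by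
      rw [← conj_conj]
      exact conj_le_iff.2 hm
    refine ⟨MulAut.conj (k * m) • Z j, adj_form D.P ⟨k, rfl⟩ (adj_of_line D.tr h1), h1, ?_⟩
    rw [← conj_conj]
    exact ⟨x, hxm, rfl⟩
  · rintro s ⟨m, -, rfl⟩ hs
    exact ln_of_le D.tr hs

omit [Finite G] in
/-- moved: `X_c` moves `N_a` for some `a ~ c` -/
theorem mov_all {a c a' c' : Subgroup G} (h : Aj Z j a c) (h' : Aj Z j a' c')
    (hm : ¬ XW Z U c ≤ centralizer (NN Z a : Set G)) : ¬ XW Z U c' ≤ centralizer (NN Z a' : Set G) := by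
  obtain ⟨k, rfl, rfl⟩ := h
  obtain ⟨k', rfl, rfl⟩ := h'
  intro h1
  apply hm
  have h2 := Cfsg.Agent.Omega.NoFF.Basic.conj_le_centralizer (g := k * k'⁻¹) h1
  have e1 : ∀ A : Subgroup G, MulAut.conj (k * k'⁻¹) • (MulAut.conj k' • A) = MulAut.conj k • A := fun A => by
    rw [conj_conj, inv_mul_cancel_right]
  rwa [← XW_conj, ← NN_conj, e1, e1] at h2

omit [Finite G] in
theorem YY_conj (k : G) {a : Subgroup G} :
    YY Z (XW Z U) (MulAut.conj k • a) = MulAut.conj k • YY Z (XW Z U) a := by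
  have key : ∀ (k : G) {a : Subgroup G}, MulAut.conj k • YY Z (XW Z U) a ≤ YY Z (XW Z U) (MulAut.conj k • a) := by
    intro k a
    have h1 : YY Z (XW Z U) a ≤ MulAut.conj k⁻¹ • YY Z (XW Z U) (MulAut.conj k • a) := by
      refine iSup_le fun p => ?_
      have h2 : XW Z U (MulAut.conj k • (p : Subgroup G)) ≤ YY Z (XW Z U) (MulAut.conj k • a) :=
        le_iSup (fun p : {p : Subgroup G // Adj Z (MulAut.conj k • a) p} => XW Z U (p : Subgroup G))
          ⟨_, p.2.conj k⟩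
      have h3 := conj_le_iff (g := k⁻¹) |>.2 h2
      rwa [XW_conj, inv_conj_conj] at h3
    have h3 := conj_le_iff (g := k) |>.2 h1
    rwa [conj_inv_conj] at h3
  refine le_antisymm ?_ (key k)
  have h1 := key k⁻¹ (a := MulAut.conj k • a)
  rw [inv_conj_conj] at h1
  have h3 := conj_le_iff (g := k) |>.2 h1
  rwa [conj_inv_conj] at h3

omit [Finite G] in
theorem le_YY {a p : Subgroup G} (h : Adj Z a p) : XW Z U p ≤ YY Z (XW Z U) a :=
  le_iSup (fun p : {p : Subgroup G // Adj Z a p} => XW Z U (p : Subgroup G)) ⟨p, h⟩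

omit [Finite G] in
theorem X_cent {a c : Subgroup G} (h : Adj Z a c) : XW Z U c ≤ centralizer (a : Set G) :=
  (D.F.XQ c h.pt').trans (D.P.QQ_le_cent_of_adj h)

omit [Finite G] in
theorem YY_cent (a : Subgroup G) : YY Z (XW Z U) a ≤ centralizer (a : Set G) := iSup_le fun p => D.X_cent p.2

omit [Finite G] in
theorem mv' {a p : Subgroup G} {w : G} (hp : Adj Z a p) (hw : w ∈ XW Z U p) {x : Subgroup G} (hx : Adj Z a x) :
    Adj Z a (MulAut.conj w • x) := by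
  have h1 := Adj.conj hx w
  rwa [conj_eq_of_mem (centralizer_le_normalizer _ (D.X_cent hp hw))] at h1

end NrB

namespace NrH

variable [Finite G] {Z U : Fin 2 → Subgroup G} {j : Fin 2} (D : NrH Z U j)
include D

/-- **The geometry of `N_a`.** -/
theorem ng {a c : Subgroup G} (h : Aj Z j a c) (hm : ¬ XW Z U c ≤ centralizer (NN Z a : Set G)) :
    NG (NN Z a) {p | Adj Z a p} (XW Z U) (Nat.card (Z j)) where
  toGG := gg_of D.P D.F D.com D.ti D.tr D.sur D.pts D.cardU D.core h hm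
  ex := ⟨c, h.adj⟩
  cp := by
    have h01 : Aj Z j (Z (j + 1)) (Z j) := ⟨1, by rw [map_one, one_smul], by rw [map_one, one_smul]⟩
    have hm0 := D.mov_all h h01 hm
    obtain ⟨k, hk, -⟩ := h
    subst hk
    intro p hp x hx
    have hp' : Adj Z (Z (j + 1)) (MulAut.conj k⁻¹ • p) := by
      have := Adj.conj hp k⁻¹
      rwa [inv_conj_conj] at this
    have hx' : Adj Z (Z (j + 1)) (MulAut.conj k⁻¹ • x) := by
      have := Adj.conj hx k⁻¹
      rwa [inv_conj_conj] at this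
    obtain ⟨s, hs, h1, h2⟩ := D.one hm0 _ _ hp' hx'
    refine ⟨MulAut.conj k • s, Adj.conj hs k, fun h => h1 ?_, fun h => h2 ?_⟩
    · have h3 := conj_le_centralizer (g := k⁻¹) h
      rwa [← XW_conj, inv_conj_conj] at h3
    · have h3 := conj_le_centralizer (g := k⁻¹) h
      rwa [← XW_conj, inv_conj_conj] at h3

/-- the points of `c^⊥` lie in `X_c` -/
theorem pt_le_X {a c x : Subgroup G} (h : Aj Z j a c) (hm : ¬ XW Z U c ≤ centralizer (NN Z a : Set G))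
    (hx : Adj Z a x) (hcx : XW Z U c ≤ centralizer (x : Set G)) : x ≤ XW Z U c := by
  have hc := h.adj.pt'
  by_cases hne : c = x
  · rw [← hne]
    exact D.F.aX c hc
  obtain ⟨V, hV, hcV, hVN, hVc, hcov, hpts⟩ := D.exists_line h
  obtain ⟨v, hv, hvc⟩ : ∃ v ∈ V, v ∉ c := by
    by_contra hcon
    push Not at hcon
    have h1 : V = c := le_antisymm hcon hcV
    rw [h1, D.card_pt h] at hVc
    have h2 := D.qq
    nlinarith
  obtain ⟨r, hr, hrV, hvr⟩ := hcov v hv fun e => hvc (e ▸ one_mem _)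
  have hrc : c ≠ r := fun e => hvc (e ▸ hvr)
  have hVX := ln_le_XW hV
  have hcr : XW Z U c ≤ centralizer (r : Set G) := fun w hw =>
    mem_centralizer_iff.2 fun v hv => D.cent_of hc (hVX (hrV hv)) hw
  obtain ⟨g, hgc, hgr, -⟩ := (D.ng h hm).trans (c := c) (y := r) (p := x) h.adj hr.adj hx hcr hcx hrc hne
  have hgcc : MulAut.conj g • c = c := conj_eq_of_mem (centralizer_le_normalizer _ hgc)
  have hV' : LnOn Z U c (MulAut.conj g • V) := by
    have := hV.conj g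
    rwa [hgcc] at this
  rw [← hgr]
  exact (conj_le_iff.2 hrV).trans (ln_le_XW hV')

/-- the vectors of `c^⊥` lie in `X_c` -/
theorem mem_X {b c : Subgroup G} (h : Aj Z j b c) (hm : ¬ XW Z U c ≤ centralizer (NN Z b : Set G)) {m : G}
    (hmN : m ∈ NN Z b) (hc : ∀ w ∈ XW Z U c, w * m = m * w) : m ∈ XW Z U c := by
  by_cases hm1 : m = 1
  · rw [hm1]
    exact one_mem _
  obtain ⟨p, hp, hmp⟩ := (D.ng h hm).vect hmN hm1
  exact D.pt_le_X h hm hp ((D.ng h hm).one h.adj hp hmp hm1 hc) hmp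

omit [Finite G] in
theorem gm_mem {a c : Subgroup G} (h : Adj Z a c) {g m : G} (hg : g ∈ NN Z a) (hm : m ∈ XW Z U c) :
    g * m * g⁻¹ * m⁻¹ ∈ c := by
  have h1 := inv_mem (D.F.com c h.pt' m hm g (D.NQ h hg))
  have e : (m * g * m⁻¹ * g⁻¹)⁻¹ = g * m * g⁻¹ * m⁻¹ := by group
  rwa [e] at h1

omit [Finite G] in
theorem fix {a b c : Subgroup G} (hac : Adj Z a c) (hbc : Adj Z b c) {g : G} (hg : g ∈ NN Z a) :
    MulAut.conj g • b = b := conj_eq_of_mem (centralizer_le_normalizer _ (D.NN_cent hac hbc hg))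

/-- (G4) -/
theorem g4 {a b c r x : Subgroup G} (hac : Aj Z j a c) (hbc : Aj Z j b c) (har : Aj Z j a r) (hbr : Aj Z j b r)
    (hm : ¬ XW Z U c ≤ centralizer (NN Z b : Set G)) (hcr : XW Z U c ≤ centralizer (r : Set G)) (hx : Adj Z b x)
    (hxc : XW Z U c ≤ centralizer (x : Set G)) (hxr : ¬ XW Z U r ≤ centralizer (x : Set G)) {g x₀ : G}
    (hg : g ∈ NN Z a) (hx₀ : x₀ ∈ x) (hx1 : x₀ ≠ 1) (hgx : g * x₀ = x₀ * g) : g ∈ centralizer (NN Z b : Set G) := by
  have E := D.ng hbc hm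
  have hmr : ¬ XW Z U r ≤ centralizer (NN Z b : Set G) := D.mov_all hbc hbr hm
  have hgm : ∀ s, Adj Z b s → Adj Z b (MulAut.conj g • s) := by
    intro s hs
    have := hs.conj g
    rwa [D.fix hac.adj hbc.adj hg] at this
  have hcx : c ≠ x := by
    rintro rfl
    exact hxr (E.sym hbc.adj hbr.adj hcr)
  -- `g` centralises `x`
  have hxX : x ≤ XW Z U c := D.pt_le_X hbc hm hx hxc
  have hgx' : MulAut.conj g • x = x := by
    refine D.ti' (hgm x hx).pt' hx.pt' (v := x₀) ⟨x₀, hx₀, ?_⟩ hx₀ hx1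
    change g * x₀ * g⁻¹ = x₀
    rw [hgx, mul_inv_cancel_right]
  have hgxx : ∀ v ∈ x, g * v = v * g := by
    intro v hv
    by_contra hne
    have h1 := D.gm_mem hac.adj hg (hxX hv)
    have h2 : g * v * g⁻¹ ∈ x := hgx' ▸ (⟨v, hv, rfl⟩ : g * v * g⁻¹ ∈ MulAut.conj g • x)
    refine hcx (D.ti' hac.adj.pt' hx.pt' h1 (mul_mem h2 (inv_mem hv)) fun e => hne ?_)
    rwa [mul_inv_eq_one, mul_inv_eq_iff_eq_mul] at e
  -- `[g, N_b] ≤ r`
  have key : ∀ m ∈ NN Z b, ∃ x' ∈ x, ∀ w ∈ XW Z U r, w * (m * x'⁻¹) = (m * x'⁻¹) * w :=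
    fun m hm => E.ix hbr.adj hx hxr hm
  have hgr : ∀ m ∈ NN Z b, g * m * g⁻¹ * m⁻¹ ∈ r := by
    intro m hmN
    obtain ⟨x', hx', h1⟩ := key m hmN
    have h2 : m * x'⁻¹ ∈ XW Z U r := D.mem_X hbr hmr (mul_mem hmN (inv_mem (hx.le_NN hx'))) h1
    have h3 := D.gm_mem har.adj hg h2
    have e : g * (m * x'⁻¹) * g⁻¹ * (m * x'⁻¹)⁻¹ = g * m * g⁻¹ * m⁻¹ := by
      have h4 := hgxx x' hx'
      have h5 : x'⁻¹ * g⁻¹ = g⁻¹ * x'⁻¹ := by
        rw [← mul_inv_rev, ← mul_inv_rev, h4]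
      calc g * (m * x'⁻¹) * g⁻¹ * (m * x'⁻¹)⁻¹ = g * m * (x'⁻¹ * g⁻¹) * (x' * m⁻¹) := by group
        _ = _ := by rw [h5]; group
    rwa [e] at h3
  have htv : ∀ s, Adj Z b s → XW Z U r ≤ centralizer (s : Set G) → ∀ v ∈ s, g * v = v * g := by
    intro s hs hrs
    exact E.tv hbr.adj hs (fun v hv => (mem_centralizer_iff.1 (D.NN_cent' har.adj hg) v hv).symm) hgr hgm
      (fun s hs => D.F.conj g s (Adj.pt' hs)) hrs
  refine mem_centralizer_iff.2 fun m hmN => ?_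
  obtain ⟨x', hx', h1⟩ := key m hmN
  have h4 : g * (m * x'⁻¹) = (m * x'⁻¹) * g := by
    by_cases h5 : m * x'⁻¹ = 1
    · rw [h5, one_mul, mul_one]
    · obtain ⟨s, hs, hms⟩ := E.vect (mul_mem hmN (inv_mem (hx.le_NN hx'))) h5
      exact htv s hs (E.one hbr.adj hs hms h5 h1) _ hms
  calc m * g = (m * x'⁻¹) * (x' * g) := by group
    _ = (m * x'⁻¹) * (g * x') := by rw [hgxx x' hx']
    _ = (g * (m * x'⁻¹)) * x' := by rw [h4]; group
    _ = g * m := by group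

/-- **two common neighbours** -/
theorem two_common {a b c r : Subgroup G} (hac : Aj Z j a c) (hbc : Aj Z j b c) (har : Aj Z j a r) (hbr : Aj Z j b r)
    (hne : c ≠ r) (hm : ¬ XW Z U c ≤ centralizer (NN Z b : Set G)) : Com Z a b := by
  have E := D.ng hbc hm
  have hmr : ¬ XW Z U r ≤ centralizer (NN Z b : Set G) := D.mov_all hbc hbr hm
  have hma : ¬ XW Z U c ≤ centralizer (NN Z a : Set G) := D.mov_all hbc hac hm
  have Ea := D.ng hac hma
  have hcp := hac.adj.pt'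
  have hrp := har.adj.pt'
  by_cases hcr : XW Z U c ≤ centralizer (r : Set G)
  swap
  · intro g hg
    refine mem_centralizer_iff.2 fun m hmN => ?_
    obtain ⟨x, hx, h1⟩ := E.ix hbc.adj hbr.adj hcr hmN
    have hrc : ¬ XW Z U r ≤ centralizer (c : Set G) := fun h => hcr (E.sym hbr.adj hbc.adj h)
    have hm1N : m * x⁻¹ ∈ NN Z b := mul_mem hmN (inv_mem (hbr.adj.le_NN hx))
    obtain ⟨y, hy, h2⟩ := E.ix hbr.adj hbc.adj hrc hm1N
    have hm' : m * x⁻¹ * y⁻¹ ∈ NN Z b := mul_mem hm1N (inv_mem (hbc.adj.le_NN hy))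
    have h3 : ∀ w ∈ XW Z U c, w * (m * x⁻¹ * y⁻¹) = (m * x⁻¹ * y⁻¹) * w := by
      intro w hw
      have h5 : w * y⁻¹ = y⁻¹ * w := D.cent_of hcp hw (inv_mem (D.F.aX c hcp hy))
      calc w * (m * x⁻¹ * y⁻¹) = w * (m * x⁻¹) * y⁻¹ := by group
        _ = m * x⁻¹ * (w * y⁻¹) := by rw [h1 w hw]; group
        _ = _ := by rw [h5]; group
    have h4 := D.mem_X hbc hm hm' h3
    have h5 := D.mem_X hbr hmr hm' h2
    have h6 := ti_one D.ti hcp hrp hne (D.gm_mem hac.adj hg h4) (D.gm_mem har.adj hg h5)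
    rw [mul_inv_eq_one, mul_inv_eq_iff_eq_mul] at h6
    have h7 : g * y = y * g := (mem_centralizer_iff.1 (D.NN_cent' hac.adj hg) y hy).symm
    have h8 : g * x = x * g := (mem_centralizer_iff.1 (D.NN_cent' har.adj hg) x hx).symm
    calc m * g = (m * x⁻¹ * y⁻¹) * (y * (x * g)) := by group
      _ = (m * x⁻¹ * y⁻¹) * (y * g * x) := by rw [← h8]; group
      _ = ((m * x⁻¹ * y⁻¹) * g) * (y * x) := by rw [← h7]; group
      _ = g * m := by rw [← h6]; group
  · by_contra hcon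
    obtain ⟨g, hg, hgN⟩ := SetLike.not_le_iff_exists.1 hcon
    have hrc : XW Z U r ≤ centralizer (c : Set G) := E.sym hbc.adj hbr.adj hcr
    obtain ⟨x, hx, hxc, hxr⟩ := E.sep hbc.adj hbr.adj hne
    obtain ⟨y, hy, hyr, hyc⟩ := E.sep hbr.adj hbc.adj hne.symm
    obtain ⟨x', hx', hxc', hxr'⟩ := Ea.sep hac.adj har.adj hne
    obtain ⟨z, hz, hz1⟩ := Ea.exists_v hx'
    have hzX : z ∈ XW Z U c := D.pt_le_X hac hma hx' hxc' hz
    have hxX : x ≤ XW Z U c := D.pt_le_X hbc hm hx hxc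
    have hyX : y ≤ XW Z U r := D.pt_le_X hbr hmr hy hyr
    have hN : ∀ v : x × y, (v.1 : G) * (v.2 : G) ∈ NN Z b := fun v =>
      mul_mem (Adj.le_NN hx v.1.2) (Adj.le_NN hy v.2.2)
    let f : x × y → c := fun v => ⟨((v.1 : G) * (v.2 : G)) * z * ((v.1 : G) * (v.2 : G))⁻¹ * z⁻¹,
      D.gm_mem hbc.adj (hN v) hzX⟩
    have hf : Function.Injective f := by
      rintro ⟨v, w⟩ ⟨v', w'⟩ e
      have e1 : ((v : G) * (w : G)) * z * ((v : G) * (w : G))⁻¹ * z⁻¹ =
          ((v' : G) * (w' : G)) * z * ((v' : G) * (w' : G))⁻¹ * z⁻¹ := congrArg Subtype.val e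
      have e2 := mul_right_cancel e1
      set n := ((v : G) * (w : G)) with hn
      set n' := ((v' : G) * (w' : G)) with hn'
      have e3 : (n⁻¹ * n') * z = z * (n⁻¹ * n') := by
        calc (n⁻¹ * n') * z = n⁻¹ * (n' * z * n'⁻¹) * n' := by group
          _ = z * (n⁻¹ * n') := by rw [← e2]; group
      have hnN : n⁻¹ * n' ∈ NN Z b := mul_mem (inv_mem (hN (v, w))) (hN (v', w'))
      have h1 : n⁻¹ * n' ∈ centralizer (NN Z a : Set G) :=
        D.g4 hbc hac hbr har hma hcr hx' hxc' hxr' hnN hz hz1 e3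
      have h2 : g * (n⁻¹ * n') = (n⁻¹ * n') * g := mem_centralizer_iff.1 h1 g hg
      set p := (v : G)⁻¹ * (v' : G) with hp
      set s := (w : G)⁻¹ * (w' : G) with hs
      have hpx : p ∈ x := mul_mem (inv_mem v.2) v'.2
      have hsy : s ∈ y := mul_mem (inv_mem w.2) w'.2
      have hps : n⁻¹ * n' = p * s := by
        rw [hn, hn', hp, hs]
        have h3 := D.NN_com hbc.adj.pt (inv_mem (Adj.le_NN hy w.2)) (mul_mem (inv_mem (Adj.le_NN hx v.2))
          (Adj.le_NN hx v'.2))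
        calc ((v : G) * (w : G))⁻¹ * ((v' : G) * (w' : G)) = ((w : G)⁻¹ * ((v : G)⁻¹ * (v' : G))) * (w' : G) := by group
          _ = _ := by rw [h3]; group
      rw [hps] at h2
      have h4 : g * p * g⁻¹ * p⁻¹ ∈ c := D.gm_mem hac.adj hg (hxX hpx)
      have h5 : g * s * g⁻¹ * s⁻¹ ∈ r := D.gm_mem har.adj hg (hyX hsy)
      have h6 : g * p * g⁻¹ * p⁻¹ = (g * s * g⁻¹ * s⁻¹)⁻¹ := by
        have h7 := D.NN_com hbc.adj.pt (Adj.le_NN hx hpx) (hbr.adj.le_NN (inv_mem h5))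
        have h8 : (g * p * g⁻¹ * p⁻¹) * p = (g * s * g⁻¹ * s⁻¹)⁻¹ * p := by
          rw [← h7]
          calc (g * p * g⁻¹ * p⁻¹) * p = (g * (p * s)) * (g * s)⁻¹ := by group
            _ = (p * s * g) * (g * s)⁻¹ := by rw [h2]
            _ = _ := by group
        exact mul_right_cancel h8
      have h7 : g * p * g⁻¹ * p⁻¹ = 1 := ti_one D.ti hcp hrp hne h4 (h6 ▸ inv_mem h5)
      have h8 : g * s * g⁻¹ * s⁻¹ = 1 := by
        rw [h7] at h6
        exact inv_eq_one.1 h6.symm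
      rw [mul_inv_eq_one, mul_inv_eq_iff_eq_mul] at h7 h8
      have hp1 : p = 1 := by
        by_contra hp1
        exact hgN (D.g4 hac hbc har hbr hm hcr hx hxc hxr hg hpx hp1 h7)
      have hs1 : s = 1 := by
        by_contra hs1
        exact hgN (D.g4 har hbr hac hbc hmr hrc hy hyr hyc hg hsy hs1 h8)
      exact Prod.ext (Subtype.ext (inv_mul_eq_one.1 hp1)) (Subtype.ext (inv_mul_eq_one.1 hs1))
    have h1 := Nat.card_le_card_of_injective f hf
    rw [Nat.card_prod, D.card_pt (D.aj hbc hx), D.card_pt (D.aj hbc hy), D.card_pt hac] at h1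
    have h2 := D.qq
    nlinarith

/-- **(NR1)** -/
theorem nr_one {a c : Subgroup G} (h : Aj Z j a c) : XW Z U c ≤ centralizer (NN Z a : Set G) := by
  by_contra hm
  obtain ⟨l, hl, hlN⟩ : ∃ l, LnOn Z U c l ∧ ¬ l ≤ centralizer (NN Z a : Set G) := by
    by_contra hcon
    push Not at hcon
    exact hm (sup_le (comm_symm (D.com _ _ h.adj)) (iSup_le fun l => hcon l l.2))
  have hlX := ln_le_XW hl
  obtain ⟨k, hkc, hkl⟩ : ∃ k : G, c = MulAut.conj k • Z j ∧ l = MulAut.conj k • U j := by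
    obtain ⟨g, -, hg⟩ := h
    exact ln_form D.P hg hl
  -- `b`
  have hbc : Aj Z j (MulAut.conj k • Z (j + 1)) c := ⟨k, rfl, hkc⟩
  have hlb : l ≤ NN Z (MulAut.conj k • Z (j + 1)) := by
    rw [hkl, NN_conj]
    exact conj_le_iff.2 (D.P.UN j)
  set b := MulAut.conj k • Z (j + 1) with hb
  have hmb : ¬ XW Z U c ≤ centralizer (NN Z b : Set G) := D.mov_all h hbc hm
  have E := D.ng hbc hmb
  have Ea := D.ng h hm
  obtain ⟨v, hv, hvN⟩ := SetLike.not_le_iff_exists.1 hlN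
  obtain ⟨g, hg, hgv⟩ : ∃ g ∈ NN Z a, g * v ≠ v * g := by
    by_contra hcon
    push Not at hcon
    exact hvN (mem_centralizer_iff.2 hcon)
  have hncom : ¬ Com Z a b := fun h1 => hgv (mem_centralizer_iff.1 (h1 hg) v (hlb hv)).symm
  have hin : ∀ m ∈ NN Z b, g * m * g⁻¹ * m⁻¹ ∈ c := by
    intro m hmN
    by_cases h1 : g * m * g⁻¹ * m⁻¹ = 1
    · rw [h1]
      exact one_mem _
    have h2 : g * m * g⁻¹ * m⁻¹ ∈ NN Z b := by
      refine mul_mem ?_ (inv_mem hmN)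
      exact (mem_normalizer_iff.1 (PP.HH_le_NN b (centralizer_le_normalizer _ (D.NN_cent h.adj hbc.adj hg))) m).1 hmN
    have h3 : g * m * g⁻¹ * m⁻¹ ∈ NN Z a := by
      have h4 := (mem_normalizer_iff.1 (PP.HH_le_NN a (centralizer_le_normalizer _
        (D.NN_cent hbc.adj h.adj hmN))) g⁻¹).1 (inv_mem hg)
      have e : g * m * g⁻¹ * m⁻¹ = g * (m * g⁻¹ * m⁻¹) := by group
      rw [e]
      exact mul_mem hg h4
    obtain ⟨p, hp, hmp⟩ := E.vect h2 h1
    obtain ⟨p', hp', hmp'⟩ := Ea.vect h3 h1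
    have e : p = p' := D.ti' (Adj.pt' hp) (Adj.pt' hp') hmp hmp' h1
    subst e
    by_cases hpc : c = p
    · rw [hpc]
      exact hmp
    · exact absurd (D.two_common h hbc (D.aj h hp') (D.aj hbc hp) hpc hmb) hncom
  have hv1 : v ≠ 1 := by
    rintro rfl
    exact hgv (by rw [mul_one, one_mul])
  obtain ⟨s, hs, hvs⟩ := E.vect (hlb hv) hv1
  have hcs : XW Z U c ≤ centralizer (s : Set G) :=
    E.one hbc.adj hs hvs hv1 fun w hw => D.cent_of h.adj.pt' hw (hlX hv)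
  refine hgv (E.tv hbc.adj hs (fun v hv => (mem_centralizer_iff.1 (D.NN_cent' h.adj hg) v hv).symm) hin ?_
    (fun s hs => D.F.conj g s (Adj.pt' hs)) hcs v hvs)
  intro s hs
  have := Adj.conj hs g
  rwa [D.fix h.adj hbc.adj hg] at this

end NrH

namespace NrB

variable [Finite G] {Z U : Fin 2 → Subgroup G} {j : Fin 2} (D : NrB Z U j)
include D

theorem gg (hm0 : ¬ XW Z U (Z j) ≤ centralizer (NN Z (Z (j + 1)) : Set G)) :
    GG (NN Z (Z (j + 1))) {p | Adj Z (Z (j + 1)) p} (XW Z U) (Nat.card (Z j)) :=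
  gg_of D.P D.F D.com D.ti D.tr D.sur D.pts D.cardU D.core
    ⟨1, by rw [map_one, one_smul], by rw [map_one, one_smul]⟩ hm0

/-- one class from LEMMA 0 -/
theorem oneC_of_L0 (hL : L0 Z (j + 1)) : OneC Z U j := by
  intro hm0 p x hp hx
  refine cp_of_conn (D.gg hm0) (fun p hp x hx => ?_) hp hx
  set a := Z (j + 1) with ha
  have h01 : Adj Z a (Z j) := (adj Z j).symm
  have hstep : ∀ g ∈ YY Z (XW Z U) a, (∀ p, Adj Z a p → Adj Z a (MulAut.conj g • p) ∧
      Relation.ReflTransGen (fun x y => x ∈ {p | Adj Z a p} ∧ y ∈ {p | Adj Z a p} ∧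
        (Mv (XW Z U) x y ∨ Mv (XW Z U) y x)) p (MulAut.conj g • p)) := by
    intro g hg
    refine Subgroup.iSup_induction (fun p : {p : Subgroup G // Adj Z a p} => XW Z U p)
      (C := fun g => ∀ p, Adj Z a p → Adj Z a (MulAut.conj g • p) ∧
        Relation.ReflTransGen (fun x y => x ∈ {p | Adj Z a p} ∧ y ∈ {p | Adj Z a p} ∧
        (Mv (XW Z U) x y ∨ Mv (XW Z U) y x)) p (MulAut.conj g • p))
      hg ?_ ?_ ?_
    · rintro ⟨y, hy⟩ w hw p hp
      refine ⟨D.mv' hy hw hp, ?_⟩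
      by_cases hc : XW Z U y ≤ centralizer (p : Set G)
      · have e : MulAut.conj w • p = p :=
          conj_eq_of_mem (centralizer_le_normalizer _ (hc hw))
        rw [e]
      · have hc' : ¬ XW Z U y ≤ centralizer ((MulAut.conj w • p : Subgroup G) : Set G) := by
          intro h1
          apply hc
          intro t ht
          have h2 : w * t * w⁻¹ ∈ XW Z U y := mul_mem (mul_mem hw ht) (inv_mem hw)
          exact (mem_cent_conj (g := w)).1 (h1 h2)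
        exact (Relation.ReflTransGen.single ⟨hp, hy, Or.inr hc⟩).tail ⟨hy, D.mv' hy hw hp, Or.inl hc'⟩
    · intro p hp
      rw [map_one, one_smul]
      exact ⟨hp, Relation.ReflTransGen.refl⟩
    · intro g g' h1 h2 p hp
      obtain ⟨h3, h4⟩ := h2 p hp
      obtain ⟨h5, h6⟩ := h1 _ h3
      rw [← conj_conj]
      exact ⟨h5, h4.trans h6⟩
  have hex : ∃ x ∈ YY Z (XW Z U) a, IsPGroup 2 (zpowers x) ∧ x ∉ centralizer (NN Z a : Set G) := by
    obtain ⟨w, hw, hwN⟩ := SetLike.not_le_iff_exists.1 hm0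
    exact ⟨w, D.le_YY h01 hw, (MinSimple.VModule.o2_isPGroup _).to_le
      (zpowers_le.2 (D.F.XQ (Z j) (isPt Z j) hw)), hwN⟩
  have hHY : HH a ≤ normalizer (YY Z (XW Z U) a : Set G) := by
    intro g hg
    refine ChoiceBase.mem_normalizer_iff_cj.2 ?_
    have h2 := D.YY_conj g (a := a)
    rw [conj_eq_of_mem hg] at h2
    exact h2.symm
  obtain ⟨g, hg, e⟩ := hL (YY Z (XW Z U) a) (D.YY_cent a) hHY hex _ _ hp hx
  have h3 := (hstep _ hg p hp).2
  rwa [e] at h3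

/-- one class from a 2-group `B ≤ N_G(Z 0) ∩ N_G(Z 1)` whose fixed points on `N_{j+1}` lie in `Z j` -/
theorem oneC_of_B {B : Subgroup G} (hB : IsPGroup 2 B) (hB1 : B ≤ HH (Z (j + 1))) (hB0 : B ≤ HH (Z j))
    (hfix : ∀ n ∈ NN Z (Z (j + 1)), (∀ b ∈ B, b * n = n * b) → n ∈ Z j) : OneC Z U j := by
  intro hm0 p x hp hx
  refine cp_of_fix (D.gg hm0) (c := Z j) (B := B) (adj Z j).symm hB ?_ ?_ ?_ hfix hp hx
  · intro b hb p hp
    have h1 := Adj.conj hp b
    rwa [conj_eq_of_mem (hB1 hb)] at h1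
  · exact fun b _ p _ => XW_conj b p
  · exact fun b hb => conj_eq_of_mem (hB0 hb)

end NrB

/-- **PC, both types.** -/
theorem pc [Finite G] {Z U : Fin 2 → Subgroup G} (D : ∀ j, NrH Z U j) {a u : Subgroup G} (h : Adj Z a u) :
    XW Z U u ≤ centralizer (NN Z a : Set G) := by
  obtain ⟨i, k, h1, h2⟩ := h
  have h3 : Aj Z (i + 1) a u := ⟨k, by rw [add2, h1], h2⟩
  exact (D (i + 1)).nr_one h3

/-- **PC, both types, the radical sides without LEMMA 0.** -/
theorem pc' [Finite G] {Z U : Fin 2 → Subgroup G} (P : PP Z U) (F : XF Z (XW Z U)) (hti : TIp Z)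
    (hcom : ∀ a u : Subgroup G, Adj Z a u → Com Z a u) (hT : ∀ j, Tr Z U j) (hS : ∀ j, Sur Z U j)
    (hpts : ∀ j, Pts Z U j) (hcard : ∀ j, Nat.card (U j) = Nat.card (Z j) * Nat.card (Z j)) (hcore : ∀ i, CoreP Z i)
    (hL0 : ∀ i, ¬ Z i ≤ NN Z (Z i) → L0 Z i) {a u : Subgroup G} (h : Adj Z a u) :
    XW Z U u ≤ centralizer (NN Z a : Set G) := by
  obtain ⟨i, k, h1, h2⟩ := h
  have h3 : Aj Z (i + 1) a u := ⟨k, by rw [add2, h1], h2⟩
  have e : i + 1 + 1 = i := add2 i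
  have D : NrB Z U (i + 1) := ⟨P, F, hti, hcom, hT _, hS _, hpts _, hcard _, hcore _⟩
  by_cases hr : Z i ≤ NN Z (Z i)
  · exact pcRad P F hcom hti (hT _) (hS _) (hpts _) (hcard _) (hcore _) (by rw [e]; exact hr) h3
  · exact NrH.nr_one ⟨D, D.oneC_of_L0 (by rw [e]; exact hL0 i hr)⟩ h3

/-- From `[X_u, N_a] = 1` for all `a ~ u` : `X_a` and `X_u` commute for `a ~ u` (least distance at least 2). -/
theorem x_com {Z U : Fin 2 → Subgroup G} (P : PP Z U) {X : Subgroup G → Subgroup G} (F : XF Z X) (hti : TIp Z)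
    (h : ∀ a u : Subgroup G, Adj Z a u → X u ≤ centralizer (NN Z a : Set G)) {a u : Subgroup G} (hau : Adj Z a u) :
    X a ≤ centralizer (X u : Set G) := by
  have hX : X u ≤ QQ a := P.f3 hau (F.XQ u hau.pt') (h a u hau)
  have hX' : X a ≤ QQ u := P.f3 hau.symm (F.XQ a hau.pt) (h u a hau.symm)
  by_cases hne : a = u
  · subst hne
    exact (eab_iff.1 (F.eab a hau.pt)).1
  intro x hx
  refine mem_centralizer_iff.2 fun y hy => ?_
  have h1 : x * y * x⁻¹ * y⁻¹ ∈ a := F.com a hau.pt x hx y (hX hy)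
  have h2 : x * y * x⁻¹ * y⁻¹ ∈ u := by
    have h3 := inv_mem (F.com u hau.pt' y hy x (hX' hx))
    have e : (y * x * y⁻¹ * x⁻¹)⁻¹ = x * y * x⁻¹ * y⁻¹ := by group
    rwa [e] at h3
  have h3 := ti_one hti hau.pt hau.pt' hne h1 h2
  rw [mul_inv_eq_one, mul_inv_eq_iff_eq_mul] at h3
  exact h3.symm

end Cfsg.Agent.Omega.OM.PT.NrOne
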