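import Cfsg.Agent.Omega.OM.PT.PTW
import Cfsg.Agent.Omega.OM.PT.NrOne

/-!
# TEXT W2 (7) over 401's frame `PTW` (helper918 #24006)

`PTW.pc` : `[N_a, N_u] = 1` for all `a ~ u` implies `[X_{j}, N_{j+1}] = 1`, both `j`, all `q`; `PTW.seven`.
(Radical side: `Pc.pcRad`; non-radical side: `NrOne.NrH.nr_one`, one class from `B` instead of LEMMA 0.)
-/

set_option autoImplicit false
set_option linter.unusedSectionVars false

namespace Cfsg.Agent.Omega.OM.PT

open Subgroup Cfsg Cfsg.Agent.ZN Cfsg.Agent.Omega.MinPar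
open Cfsg.Agent.Omega.OM.PG (HH QQ HH_conj QQ_conj conj_inv_conj inv_conj_conj)
open Cfsg.Agent.Omega.OM.PG.Peel (exists_mul_of_comm)
open Cfsg.Agent.Omega.NO3S.EThree.ExactA (eab_iff eab_sup eab_mono)
open Cfsg.Agent.Omega.NoFF.Basic (conj_conj mem_conj conj_le_iff conj_le_centralizer comm_symm comm_mono)
open Cfsg.Agent.Omega.NOThreeL.Pair (conj_eq_of_mem)
open scoped Pointwise

universe u

variable {G : Type u} [Group G]

namespace PTW

variable {Z U : Fin 2 → Subgroup G} {B : Subgroup G} (D : PTW Z U B)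
include D

theorem sup_eq (j : Fin 2) : Z 0 ⊔ Z 1 = Z j ⊔ Z (j + 1) := by
  rcases eq_or 0 j with rfl | rfl
  · rfl
  · exact sup_comm _ _

/-- the fixed points of `B` on `N_{j+1}`, non-radical -/
theorem fix_of [Finite G] {j : Fin 2} (hnr : ¬ Z (j + 1) ≤ NN Z (Z (j + 1))) {n : G} (hn : n ∈ NN Z (Z (j + 1)))
    (hb : ∀ b ∈ B, b * n = n * b) : n ∈ Z j := by
  have h1 : n ∈ Z j ⊔ Z (j + 1) := by
    rw [← D.sup_eq j]
    exact D.Bfix (j + 1) n hn fun b hb' => by rw [hb b hb', mul_inv_cancel_right]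
  have hjN : Z j ≤ NN Z (Z (j + 1)) := (adj Z j).symm.le_NN
  have hcc : Z j ≤ centralizer (Z (j + 1) : Set G) :=
    (hjN.trans (D.NN_le_QQ (isPt Z (j + 1)))).trans (D.cen (j + 1))
  obtain ⟨x, hx, y, hy, e⟩ := exists_mul_of_comm hcc h1
  have hyN : y ∈ NN Z (Z (j + 1)) := by
    have e1 : y = x⁻¹ * n := by rw [← e]; group
    rw [e1]
    exact mul_mem (inv_mem (hjN hx)) hn
  by_cases hy1 : y = 1
  · rw [hy1, mul_one] at e
    rwa [← e]
  · exfalso
    apply hnr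
    intro w hw
    by_cases hw1 : w = 1
    · rw [hw1]
      exact one_mem _
    obtain ⟨h, -, hZ, -, e2⟩ := D.torZ (j + 1) y hy hy1 w hw hw1
    have h2 : h ∈ HH (Z (j + 1)) := ChoiceBase.mem_normalizer_iff_cj.2 hZ
    rw [← e2]
    exact (mem_normalizer_iff.1 (PP.HH_le_NN _ h2) y).1 hyN

theorem tr3 (j : Fin 2) : Pc.Tr Z U j := fun k hk => by
  obtain ⟨l, h1, h2, h3, -⟩ := D.tr j k hk
  exact ⟨l, h1, h2, h3⟩

variable [Finite G]

theorem nrB (hcom : ∀ a u : Subgroup G, Adj Z a u → Com Z a u) (j : Fin 2) : NrOne.NrB Z U j where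
  P := D.toPP
  F := xf D.toPP D.ab D.le
  ti := D.ti
  com := hcom
  tr := D.tr3 j
  sur := sur_of D.toPP D.rt j
  pts := D.pts j
  cardU := (D.rt j).2.1
  core := D.core (j + 1)

/-- **TEXT W2 (7), both types, all `q`** -/
theorem pc (hcom : ∀ a u : Subgroup G, Adj Z a u → Com Z a u) (j : Fin 2) :
    XW Z U (Z j) ≤ centralizer (NN Z (Z (j + 1)) : Set G) := by
  have E := D.nrB hcom j
  have h : Pc.Aj Z j (Z (j + 1)) (Z j) := ⟨1, by rw [map_one, one_smul], by rw [map_one, one_smul]⟩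
  by_cases hr : Z (j + 1) ≤ NN Z (Z (j + 1))
  · exact Pc.pcRad D.toPP E.F hcom D.ti (D.tr3 j) (sur_of D.toPP D.rt j) (D.pts j) (D.rt j).2.1 (D.core (j + 1)) hr h
  · exact NrOne.NrH.nr_one ⟨E, E.oneC_of_B D.B2 (D.BH _) (D.BH _) fun n hn hb => D.fix_of hr hn hb⟩ h

/-- **TEXT W2 (7)** -/
theorem seven (hcom : ∀ a u : Subgroup G, Adj Z a u → Com Z a u) :
    ∃ j, XW Z U (Z j) ≤ centralizer (NN Z (Z (j + 1)) : Set G) := ⟨0, D.pc hcom 0⟩

/-- TEXT W2 (6) is enough -/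
theorem false_of_six (six : NN Z (Z 0) ≤ centralizer (NN Z (Z 1) : Set G)) : False :=
  D.false_of_sockets six fun hcom => D.seven hcom

end PTW

end Cfsg.Agent.Omega.OM.PT
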