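import Cfsg.Agent.Omega.OmThm.GrpGeo
import Cfsg.Agent.Omega.OM.PG.Base
import Cfsg.Agent.PLocal.OffenderStep

/-!
# The point geometry `GG` with one component, group forms, all `q` (port of 223's `EThree/NrGeo`)

`NG N Pt X q` : `GG` and any two points have a common non-perpendicular point (`Cp`).

* `cp_of_conn` : from the connectivity of the graph 'some element of `X p` moves `x`';
* `cp_of_fix` : from a 2-group `B` whose fixed points on `N` lie in one point `c`;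

* `NG.one`, `NG.sym`, `NG.ix`, `NG.hyp`, `NG.vect`, `NG.sep`, `NG.two`, `NG.trans`, `NG.tv`.
-/

set_option autoImplicit false
set_option linter.unusedSectionVars false

namespace Cfsg.Agent.Omega.OM.PT.NgGeo

open Subgroup
open Cfsg.Agent.Omega.OmThm.Grp
open Cfsg.Agent.Omega.NO3S.EThree
open Cfsg.Agent.Omega.NO3S.EThree.PtGeo (pr mp mem_mp Geo GeoL GeoO Cn Col)
open scoped Pointwise IsMulCommutative

universe u

variable {G : Type u} [Group G]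

/-- a common non-perpendicular point -/
def Cp (Pt : Set (Subgroup G)) (X : Subgroup G → Subgroup G) (p x : Subgroup G) : Prop :=
  ∃ s ∈ Pt, ¬ X p ≤ centralizer (s : Set G) ∧ ¬ X x ≤ centralizer (s : Set G)

theorem Cp.symm {Pt : Set (Subgroup G)} {X : Subgroup G → Subgroup G} {p x : Subgroup G} (h : Cp Pt X p x) :
    Cp Pt X x p := by
  obtain ⟨s, hs, h1, h2⟩ := h
  exact ⟨s, hs, h2, h1⟩

/-- `GG` with one component. -/
structure NG (N : Subgroup G) (Pt : Set (Subgroup G)) (X : Subgroup G → Subgroup G) (q : ℕ) : Prop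
    extends GG N Pt X q where
  ex : Pt.Nonempty
  cp : ∀ p ∈ Pt, ∀ x ∈ Pt, Cp Pt X p x

section gg

variable {N : Subgroup G} {Pt : Set (Subgroup G)} {X : Subgroup G → Subgroup G} {q : ℕ}

section comm

variable [IsMulCommutative N] (D : GG N Pt X q)
include D

theorem cp_iff {p x : Subgroup G} (hp : p ∈ Pt) (hx : x ∈ Pt) :
    Cn (pt N '' Pt) (TA N Pt X) (pt N p) (pt N x) ↔ Cp Pt X p x := by
  constructor
  · rintro ⟨_, ⟨s, hs, rfl⟩, h1, h2⟩
    exact ⟨s, hs, fun h => h1 ((D.le_pr hp hs).2 h), fun h => h2 ((D.le_pr hx hs).2 h)⟩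
  · rintro ⟨s, hs, h1, h2⟩
    exact ⟨_, ⟨s, hs, rfl⟩, fun h => h1 ((D.le_pr hp hs).1 h), fun h => h2 ((D.le_pr hx hs).1 h)⟩

end comm

variable (D : GG N Pt X q)
include D

theorem isc : IsMulCommutative N := ⟨⟨fun a b => Subtype.ext (D.comm a a.2 b b.2)⟩⟩

variable [Finite G]

theorem cp_step {p r u : Subgroup G} (hp : p ∈ Pt) (hr : r ∈ Pt) (hu : u ∈ Pt) (h : Cp Pt X p r)
    (hru : ¬ X r ≤ centralizer (u : Set G)) : Cp Pt X p u := by
  have := isc D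
  refine (cp_iff D hp hu).1 (D.geoL.toGeo.cn_step ⟨p, hp, rfl⟩ ⟨r, hr, rfl⟩ ⟨u, hu, rfl⟩ ((cp_iff D hp hr).2 h) ?_)
  exact fun h1 => hru ((D.le_pr hr hu).1 h1)

theorem cp_trans {p r u : Subgroup G} (hp : p ∈ Pt) (hr : r ∈ Pt) (hu : u ∈ Pt) (h : Cp Pt X p r)
    (h' : Cp Pt X r u) : Cp Pt X p u := by
  have := isc D
  exact (cp_iff D hp hu).1 (D.geoL.toGeo.cn_trans ⟨p, hp, rfl⟩ ⟨r, hr, rfl⟩ ⟨u, hu, rfl⟩ ((cp_iff D hp hr).2 h)
    ((cp_iff D hr hu).2 h'))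

theorem cp_refl {p : Subgroup G} (hp : p ∈ Pt) : Cp Pt X p p := by
  have := isc D
  exact (cp_iff D hp hp).1 (D.geoL.cn_refl ⟨p, hp, rfl⟩)

theorem gsym {p x : Subgroup G} (hp : p ∈ Pt) (hx : x ∈ Pt) (h : X p ≤ centralizer (x : Set G)) :
    X x ≤ centralizer (p : Set G) := by
  have := isc D
  exact (D.le_pr hx hp).1 (D.geoL.toGeo.sym _ ⟨p, hp, rfl⟩ _ ⟨x, hx, rfl⟩ ((D.le_pr hp hx).2 h))

/-- one class from the connectivity of the moving graph -/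
theorem cp_of_conn (conn : ∀ p ∈ Pt, ∀ x ∈ Pt,
    Relation.ReflTransGen (fun a b => a ∈ Pt ∧ b ∈ Pt ∧ (Mv X a b ∨ Mv X b a)) p x) {p x : Subgroup G}
    (hp : p ∈ Pt) (hx : x ∈ Pt) : Cp Pt X p x := by
  have h := conn p hp x hx
  clear hx
  induction h with
  | refl => exact cp_refl D hp
  | tail _ h2 ih =>
    obtain ⟨hb, hc, h3⟩ := h2
    refine cp_step D hp hb hc ih ?_
    rcases h3 with h3 | h3
    · exact h3
    · exact fun h4 => h3 (gsym D hb hc h4)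

/-- **one class from a 2-group `B` whose fixed points on `N` lie in one point `c`** -/
theorem cp_of_fix {c B : Subgroup G} (hc : c ∈ Pt) (hB : IsPGroup 2 B)
    (hBP : ∀ b ∈ B, ∀ p ∈ Pt, MulAut.conj b • p ∈ Pt)
    (hBX : ∀ b ∈ B, ∀ p ∈ Pt, X (MulAut.conj b • p) = MulAut.conj b • X p)
    (hBc : ∀ b ∈ B, MulAut.conj b • c = c) (hfix : ∀ n ∈ N, (∀ b ∈ B, b * n = n * b) → n ∈ c) {p x : Subgroup G}
    (hp : p ∈ Pt) (hx : x ∈ Pt) : Cp Pt X p x := by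
  have : Fact (Nat.Prime 2) := ⟨Nat.prime_two⟩
  have main : ∀ x ∈ Pt, Cp Pt X c x := by
    intro x hx
    by_contra hcx
    have hcon : ∀ A B : Subgroup G, ∀ b : G, X A ≤ centralizer (B : Set G) →
        MulAut.conj b • X A ≤ centralizer ((MulAut.conj b • B : Subgroup G) : Set G) := fun A B b h =>
      Cfsg.Agent.Omega.NoFF.Basic.conj_le_centralizer h
    -- the bad points
    have hbad : ∀ b ∈ B, ∀ y ∈ Pt, ¬ Cp Pt X c y → ¬ Cp Pt X c (MulAut.conj b • y) := by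
      rintro b hb y hy hcy ⟨s, hs, h1, h2⟩
      have hb' := B.inv_mem hb
      refine hcy ⟨MulAut.conj b⁻¹ • s, hBP _ hb' _ hs, fun h => h1 ?_, fun h => h2 ?_⟩
      · have h3 := hcon _ _ b h
        rw [← hBX b hb c hc, hBc b hb] at h3
        rwa [Cfsg.Agent.Omega.OM.PG.conj_inv_conj] at h3
      · have h3 := hcon _ _ b h
        rw [← hBX b hb y hy] at h3
        rwa [Cfsg.Agent.Omega.OM.PG.conj_inv_conj] at h3
    set E : Subgroup G := sSup {y | y ∈ Pt ∧ ¬ Cp Pt X c y} with hE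
    have hEN : E ≤ N := sSup_le fun y hy => D.le y hy.1
    have hxE : x ≤ E := le_sSup ⟨hx, hcx⟩
    have hE2 : IsPGroup 2 E := fun v => ⟨1, Subtype.ext (by
      have h1 := D.sq _ (hEN v.2)
      change (v : G) ^ 2 ^ 1 = 1
      rw [pow_one, pow_two]
      exact h1)⟩
    have hBE : B ≤ normalizer (E : Set G) := by
      have key : ∀ b ∈ B, MulAut.conj b • E ≤ E := by
        intro b hb
        have h1 : E ≤ MulAut.conj b⁻¹ • E := by
          refine sSup_le fun y hy => ?_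
          have h2 : MulAut.conj b • y ≤ E := le_sSup ⟨hBP b hb y hy.1, hbad b hb y hy.1 hy.2⟩
          have h3 := Cfsg.Agent.Omega.NoFF.Basic.conj_le_iff (g := b⁻¹) |>.2 h2
          rwa [Cfsg.Agent.Omega.OM.PG.inv_conj_conj] at h3
        have h2 := Cfsg.Agent.Omega.NoFF.Basic.conj_le_iff (g := b) |>.2 h1
        rwa [Cfsg.Agent.Omega.OM.PG.conj_inv_conj] at h2
      intro b hb
      refine Cfsg.Agent.ZN.ChoiceBase.mem_normalizer_iff_cj.2 (le_antisymm (key b hb) ?_)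
      have h2 := Cfsg.Agent.Omega.NoFF.Basic.conj_le_iff (g := b) |>.2 (key b⁻¹ (B.inv_mem hb))
      rwa [Cfsg.Agent.Omega.OM.PG.conj_inv_conj] at h2
    have hEne : E ≠ ⊥ := by
      intro h
      obtain ⟨v, hv, hv1⟩ : ∃ v ∈ x, v ≠ 1 := by
        by_contra hcon
        push Not at hcon
        have h1 : x = ⊥ := (eq_bot_iff_forall _).2 hcon
        have h2 := D.card x hx
        rw [h1, Subgroup.card_bot] at h2
        have := D.q2
        omega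
      have h1 := hxE hv
      rw [h, mem_bot] at h1
      exact hv1 h1
    obtain ⟨v, hv, hv1⟩ : ∃ v ∈ E ⊓ centralizer (B : Set G), v ≠ 1 := by
      by_contra hcon
      push Not at hcon
      exact Cfsg.Agent.PLocal.OffenderStep.inf_centralizer_ne_bot E B hE2 hB hBE hEne
        ((eq_bot_iff_forall _).2 hcon)
    have hvc : v ∈ c := hfix v (hEN hv.1) fun b hb => mem_centralizer_iff.1 hv.2 b hb
    -- `z` not perpendicular to `c`
    obtain ⟨z, hz, hcz⟩ : ∃ z ∈ Pt, ¬ X c ≤ centralizer (z : Set G) := by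
      obtain ⟨s, hs, h1, -⟩ := cp_refl D hc
      exact ⟨s, hs, h1⟩
    have hCz : Cp Pt X c z := cp_step D hc hc hz (cp_refl D hc) hcz
    -- `X z` centralises `E`
    have hzE : X z ≤ centralizer (E : Set G) := by
      rw [le_centralizer_iff]
      refine sSup_le fun y hy => ?_
      rw [← le_centralizer_iff]
      by_contra h
      exact hy.2 (cp_step D hc hz hy.1 hCz h)
    -- so it centralises `c`
    have h1 : ∀ w ∈ X z, MulAut.conj w • c = c := by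
      intro w hw
      refine D.ti _ (D.mv z hz w hw c hc) c hc v ⟨v, hvc, ?_⟩ hvc hv1
      change w * v * w⁻¹ = v
      rw [← mem_centralizer_iff.1 (hzE hw) v hv.1, mul_inv_cancel_right]
    have h2 : X z ≤ centralizer (c : Set G) := by
      intro w hw
      refine mem_centralizer_iff.2 fun u hu => ?_
      by_contra hne
      have h2 : w * u * w⁻¹ ∈ c := h1 w hw ▸ (⟨u, hu, rfl⟩ : w * u * w⁻¹ ∈ MulAut.conj w • c)
      have h3 : w * u * w⁻¹ * u⁻¹ ≠ 1 := by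
        intro e
        rw [mul_inv_eq_one, mul_inv_eq_iff_eq_mul] at e
        exact hne e.symm
      have h4 := D.ti z hz c hc _ (D.XN z hz w hw u (D.le c hc hu)) (mul_mem h2 (inv_mem hu)) h3
      subst h4
      exact hne (D.Xp z hz w hw u hu).symm
    exact hcz (gsym D hz hc h2)
  exact cp_trans D hp hc hx (main p hp).symm (main x hx)

end gg

namespace NG

variable {N : Subgroup G} {Pt : Set (Subgroup G)} {X : Subgroup G → Subgroup G} {q : ℕ}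

section comm

variable [IsMulCommutative N] (D : NG N Pt X q) [Finite G]
include D

theorem cn {p x : Subgroup G} (hp : p ∈ Pt) (hx : x ∈ Pt) : Cn (pt N '' Pt) (TA N Pt X) (pt N p) (pt N x) :=
  (cp_iff D.toGG hp hx).2 (D.cp p hp x hx)

theorem geoO : GeoO (pt N '' Pt) (TA N Pt X) where
  toGeoL := D.toGG.geoL
  cn := by
    rintro _ ⟨p, hp, rfl⟩ _ ⟨x, hx, rfl⟩
    exact D.cn hp hx
  nonempty := D.ex.image _

end comm

/-! ### Group forms -/

variable (D : NG N Pt X q)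
include D

theorem isc : IsMulCommutative N := ⟨⟨fun a b => Subtype.ext (D.comm a a.2 b b.2)⟩⟩

theorem exists_v {p : Subgroup G} (hp : p ∈ Pt) : ∃ v ∈ p, v ≠ 1 := by
  by_contra hcon
  push Not at hcon
  have h1 : p = ⊥ := (eq_bot_iff_forall _).2 hcon
  have h2 := D.card p hp
  rw [h1, Subgroup.card_bot] at h2
  have := D.q2
  omega

/-- `X p` centralises a vector `≠ 1` of `x` : it centralises `x` -/
theorem one {p x : Subgroup G} (hp : p ∈ Pt) (hx : x ∈ Pt) {v : G} (hv : v ∈ x) (hv1 : v ≠ 1)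
    (h : ∀ w ∈ X p, w * v = v * w) : X p ≤ centralizer (x : Set G) := by
  intro w hw
  have h1 : MulAut.conj w • x = x := by
    refine D.ti _ (D.mv p hp w hw x hx) x hx v ⟨v, hv, ?_⟩ hv hv1
    change w * v * w⁻¹ = v
    rw [h w hw, mul_inv_cancel_right]
  refine mem_centralizer_iff.2 fun u hu => ?_
  by_contra hne
  have h2 : w * u * w⁻¹ ∈ x := h1 ▸ (⟨u, hu, rfl⟩ : w * u * w⁻¹ ∈ MulAut.conj w • x)
  have h3 : w * u * w⁻¹ * u⁻¹ ≠ 1 := by
    intro e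
    rw [mul_inv_eq_one, mul_inv_eq_iff_eq_mul] at e
    exact hne e.symm
  have h4 := D.ti p hp x hx _ (D.XN p hp w hw u (D.le x hx hu)) (mul_mem h2 (inv_mem hu)) h3
  subst h4
  exact hne (D.Xp p hp w hw u hu).symm

variable [Finite G]

theorem sym {p x : Subgroup G} (hp : p ∈ Pt) (hx : x ∈ Pt) (h : X p ≤ centralizer (x : Set G)) :
    X x ≤ centralizer (p : Set G) := by
  have := D.isc
  exact (D.le_pr hx hp).1 (D.toGG.geoL.toGeo.sym _ ⟨p, hp, rfl⟩ _ ⟨x, hx, rfl⟩ ((D.le_pr hp hx).2 h))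

/-- `N = r C_N(X p)` -/
theorem ix {p r : Subgroup G} (hp : p ∈ Pt) (hr : r ∈ Pt) (h : ¬ X p ≤ centralizer (r : Set G)) {m : G} (hm : m ∈ N) :
    ∃ x ∈ r, ∀ w ∈ X p, w * (m * x⁻¹) = (m * x⁻¹) * w := by
  have := D.isc
  obtain ⟨x, hx, h1⟩ := D.toGG.geoL.toGeo.ix _ ⟨p, hp, rfl⟩ _ ⟨r, hr, rfl⟩ (fun h1 => h ((D.le_pr hp hr).1 h1))
    (Additive.ofMul (⟨m, hm⟩ : N))
  refine ⟨((x.toMul : N) : G), hx, ?_⟩
  rw [sub_eq_add_neg] at h1
  exact (D.mem_pr hp).1 h1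

/-- hyperbolic lines are unions of points -/
theorem hyp {p r : Subgroup G} (hp : p ∈ Pt) (hr : r ∈ Pt) (h : ¬ X p ≤ centralizer (r : Set G)) {x y : G}
    (hx : x ∈ p) (hy : y ∈ r) (h1 : x * y ≠ 1) : ∃ s ∈ Pt, x * y ∈ s ∧ s ≤ p ⊔ r := by
  have := D.isc
  obtain ⟨_, ⟨s, hs, rfl⟩, h2, h3⟩ := D.toGG.geoL.toGeo.hyp' ⟨p, hp, rfl⟩ ⟨r, hr, rfl⟩ (fun h1 => h ((D.le_pr hp hr).1 h1))
    (x := Additive.ofMul (⟨x, D.le p hp hx⟩ : N)) (y := Additive.ofMul (⟨y, D.le r hr hy⟩ : N)) hx hy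
    (fun e => h1 (congrArg (fun t : Additive N => ((t.toMul : N) : G)) e))
  refine ⟨s, hs, h2, fun v hv => ?_⟩
  have h4 := h3 (x := Additive.ofMul (⟨v, D.le s hs hv⟩ : N)) hv
  obtain ⟨a, ha, b, hb, e⟩ := AddSubgroup.mem_sup.1 h4
  have e' : ((a.toMul : N) : G) * ((b.toMul : N) : G) = v :=
    congrArg (fun t : Additive N => ((t.toMul : N) : G)) e
  rw [← e']
  exact mul_mem (mem_sup_left ha) (mem_sup_right hb)

/-- **every element `≠ 1` lies in a point** -/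
theorem vect {v : G} (hv : v ∈ N) (hv1 : v ≠ 1) : ∃ p ∈ Pt, v ∈ p := by
  have := D.isc
  obtain ⟨_, ⟨p, hp, rfl⟩, h⟩ := D.geoO.vect (Additive.ofMul (⟨v, hv⟩ : N))
    (fun e => hv1 (congrArg (fun t : Additive N => ((t.toMul : N) : G)) e))
  exact ⟨p, hp, h⟩

/-- different points have different perps -/
theorem sep {p x : Subgroup G} (hp : p ∈ Pt) (hx : x ∈ Pt) (hne : p ≠ x) :
    ∃ r ∈ Pt, X p ≤ centralizer (r : Set G) ∧ ¬ X x ≤ centralizer (r : Set G) := by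
  have := D.isc
  obtain ⟨_, ⟨r, hr, rfl⟩, h1, h2⟩ := D.toGG.geoL.sep ⟨p, hp, rfl⟩ ⟨x, hx, rfl⟩
    (fun e => hne (pt_inj (D.le p hp) (D.le x hx) e)) (D.cn hp hx)
  exact ⟨r, hr, (D.le_pr hp hr).1 h1, fun h => h2 ((D.le_pr hx hr).2 h)⟩

theorem two {x y y' : Subgroup G} (hx : x ∈ Pt) (hy : y ∈ Pt) (hy' : y' ∈ Pt) (h : x ≠ y) (h' : x ≠ y') :
    ∃ p ∈ Pt, X x ≤ centralizer (p : Set G) ∧ ¬ X y ≤ centralizer (p : Set G) ∧ ¬ X y' ≤ centralizer (p : Set G) := by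
  have := D.isc
  obtain ⟨_, ⟨p, hp, rfl⟩, h1, h2, h3⟩ := D.geoO.two ⟨x, hx, rfl⟩ ⟨y, hy, rfl⟩ ⟨y', hy', rfl⟩
    (fun e => h (pt_inj (D.le x hx) (D.le y hy) e)) (fun e => h' (pt_inj (D.le x hx) (D.le y' hy') e))
  exact ⟨p, hp, (D.le_pr hx hp).1 h1, fun h => h2 ((D.le_pr hy hp).2 h), fun h => h3 ((D.le_pr hy' hp).2 h)⟩

/-- **transitivity on the points `≠ c` of `c^⊥`** : one step -/
theorem step {c y p : Subgroup G} (hc : c ∈ Pt) (hy : y ∈ Pt) (hp : p ∈ Pt) (hcy : X c ≤ centralizer (y : Set G))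
    (hcp : X c ≤ centralizer (p : Set G)) (hyp : ¬ X y ≤ centralizer (p : Set G)) :
    ∃ s ∈ Pt, X s ≤ centralizer (c : Set G) ∧ ∃ w ∈ X s, MulAut.conj w • y = p := by
  obtain ⟨u, hu, hu1⟩ := D.exists_v hy
  obtain ⟨v, hv, hv1⟩ := D.exists_v hp
  have hyp' : y ≠ p := by
    rintro rfl
    exact hyp fun w hw => mem_centralizer_iff.2 fun z hz => (D.Xp y hy w hw z hz).symm
  have hm : u⁻¹ * v ≠ 1 := by
    intro e
    have e1 : u = v := inv_mul_eq_one.1 e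
    exact hyp' (D.ti y hy p hp u hu (e1 ▸ hv) hu1)
  obtain ⟨s, hs, h1, h2⟩ := D.hyp hy hp hyp (inv_mem hu) hv hm
  have hcs : X c ≤ centralizer (s : Set G) := by
    have h3 : y ⊔ p ≤ centralizer (X c : Set G) :=
      sup_le (by rwa [le_centralizer_iff] at hcy) (by rwa [le_centralizer_iff] at hcp)
    rw [le_centralizer_iff]
    exact h2.trans h3
  refine ⟨s, hs, D.sym hc hs hcs, ?_⟩
  -- `u` is moved by `X s`
  have h4 : ∃ w ∈ X s, w * u ≠ u * w := by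
    by_contra hcon
    push Not at hcon
    have h5 : X s ≤ centralizer (y : Set G) := D.one hs hy hu hu1 hcon
    have h6 : X y ≤ centralizer (s : Set G) := D.sym hs hy h5
    refine hyp (D.one hy hp hv hv1 fun w hw => ?_)
    have h7 : w * (u⁻¹ * v) = (u⁻¹ * v) * w := (mem_centralizer_iff.1 (h6 hw) _ h1).symm
    have h8 : w * u⁻¹ = u⁻¹ * w := D.Xp y hy w hw _ (inv_mem hu)
    have h9 : u⁻¹ * (w * v) = u⁻¹ * (v * w) := by
      calc u⁻¹ * (w * v) = w * (u⁻¹ * v) := by rw [← mul_assoc, ← h8, mul_assoc]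
        _ = u⁻¹ * (v * w) := by rw [h7, mul_assoc]
    exact mul_left_cancel h9
  obtain ⟨w, hw, hwu⟩ := h4
  obtain ⟨w', hw', e⟩ := D.sur s hs w hw u (D.le y hy hu) hwu _ h1
  refine ⟨w', hw', D.ti _ (D.mv s hs w' hw' y hy) p hp v ⟨u, hu, ?_⟩ hv hv1⟩
  change w' * u * w'⁻¹ = v
  have e1 : w' * u * w'⁻¹ = (u⁻¹ * v) * u := by rw [← e]; group
  rw [e1, D.comm _ (mul_mem (inv_mem (D.le y hy hu)) (D.le p hp hv)) u (D.le y hy hu)]
  group

/-- **transitivity on the points `≠ c` of `c^⊥`** : two steps -/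
theorem trans {c y p : Subgroup G} (hc : c ∈ Pt) (hy : y ∈ Pt) (hp : p ∈ Pt) (hcy : X c ≤ centralizer (y : Set G))
    (hcp : X c ≤ centralizer (p : Set G)) (hy' : c ≠ y) (hp' : c ≠ p) :
    ∃ g : G, g ∈ centralizer (c : Set G) ∧ MulAut.conj g • y = p ∧
      ∃ s ∈ Pt, ∃ s' ∈ Pt, ∃ w ∈ X s, ∃ w' ∈ X s', g = w' * w := by
  obtain ⟨r, hr, h1, h2, h3⟩ := D.two hc hy hp hy' hp'
  obtain ⟨s, hs, h4, w, hw, h5⟩ := D.step hc hy hr hcy h1 h2
  obtain ⟨s', hs', h6, w', hw', h7⟩ := D.step hc hr hp h1 hcp fun h => h3 (D.sym hr hp h)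
  refine ⟨w' * w, mul_mem (h6 hw') (h4 hw), ?_, s, hs, s', hs', w, hw, w', hw', rfl⟩
  rw [map_mul, mul_smul, h5, h7]

/-- **LEMMA T'.** `g` centralises `c` and `[N, g] ≤ c`, `g` permutes the points with their groups: `g` centralises the
points perpendicular to `c`. -/
theorem tv {c x : Subgroup G} (hc : c ∈ Pt) (hx : x ∈ Pt) {g : G} (hgc : ∀ v ∈ c, g * v = v * g)
    (hgN : ∀ v ∈ N, g * v * g⁻¹ * v⁻¹ ∈ c) (hgm : ∀ s ∈ Pt, MulAut.conj g • s ∈ Pt)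
    (hgX : ∀ s ∈ Pt, X (MulAut.conj g • s) = MulAut.conj g • X s) (hcx : X c ≤ centralizer (x : Set G)) :
    ∀ v ∈ x, g * v = v * g := by
  by_contra hcon
  push Not at hcon
  obtain ⟨v₁, hv₁, hne₁⟩ := hcon
  have hcx' : c ≠ x := by
    rintro rfl
    exact hne₁ (hgc v₁ hv₁)
  -- `g` fixes no vector `≠ 1` of `x`
  have hinj : ∀ v ∈ x, g * v = v * g → v = 1 := by
    intro v hv e
    by_contra hv1
    have h1 : MulAut.conj g • x = x := by
      refine D.ti _ (hgm x hx) x hx v ⟨v, hv, ?_⟩ hv hv1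
      change g * v * g⁻¹ = v
      rw [e, mul_inv_cancel_right]
    have h2 : g * v₁ * g⁻¹ ∈ x := h1 ▸ (⟨v₁, hv₁, rfl⟩ : g * v₁ * g⁻¹ ∈ MulAut.conj g • x)
    by_cases h3 : g * v₁ * g⁻¹ * v₁⁻¹ = 1
    · rw [mul_inv_eq_one, mul_inv_eq_iff_eq_mul] at h3
      exact hne₁ h3
    · exact hcx' (D.ti c hc x hx _ (hgN _ (D.le x hx hv₁)) (mul_mem h2 (inv_mem hv₁)) h3)
  -- `y ⊥ x`, `y` not `⊥ c`
  obtain ⟨y, hy, h1, h2⟩ := D.sep hx hc hcx'.symm
  obtain ⟨u, hu, hu1⟩ := D.exists_v hy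
  -- `x₀ ∈ x` with `[x₀, g] = [u, g]`
  have hcomm : ∀ a ∈ N, ∀ b ∈ N, g * (a * b) * g⁻¹ * (a * b)⁻¹ = (g * a * g⁻¹ * a⁻¹) * (g * b * g⁻¹ * b⁻¹) := by
    intro a ha b hb
    have h3 : g * b * g⁻¹ * b⁻¹ ∈ N := D.le c hc (hgN b hb)
    have h4 := D.comm _ h3 _ (inv_mem ha)
    calc g * (a * b) * g⁻¹ * (a * b)⁻¹ = (g * a * g⁻¹) * ((g * b * g⁻¹ * b⁻¹) * a⁻¹) := by group
      _ = _ := by rw [h4]; group
  obtain ⟨x₀, hx₀, e₀⟩ : ∃ x₀ ∈ x, g * x₀ * g⁻¹ * x₀⁻¹ = g * u * g⁻¹ * u⁻¹ := by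
    let f : x → c := fun v => ⟨g * v * g⁻¹ * (v : G)⁻¹, hgN v (D.le x hx v.2)⟩
    have hf : Function.Injective f := by
      intro a b e
      have e1 : g * a * g⁻¹ * (a : G)⁻¹ = g * b * g⁻¹ * (b : G)⁻¹ := congrArg Subtype.val e
      have h3 : g * ((a : G) * (b : G)⁻¹) = ((a : G) * (b : G)⁻¹) * g := by
        have h4 := hcomm a (D.le x hx a.2) (b : G)⁻¹ (inv_mem (D.le x hx b.2))
        have h5 := hcomm b (D.le x hx b.2) (b : G)⁻¹ (inv_mem (D.le x hx b.2))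
        rw [← e1, ← h4, mul_inv_cancel, mul_one, mul_inv_cancel, inv_one, mul_one] at h5
        rw [eq_comm, mul_inv_eq_one, mul_inv_eq_iff_eq_mul] at h5
        exact h5
      exact Subtype.ext (mul_inv_eq_one.1 (hinj _ (mul_mem a.2 (inv_mem b.2)) h3))
    have hbij := hf.bijective_of_nat_card_le (by rw [D.card c hc, D.card x hx])
    obtain ⟨x₀, e⟩ := hbij.2 ⟨g * u * g⁻¹ * u⁻¹, hgN u (D.le y hy hu)⟩
    exact ⟨x₀, x₀.2, congrArg Subtype.val e⟩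
  set v := u * x₀⁻¹ with hv
  have hxN := D.le x hx hx₀
  have huN := D.le y hy hu
  have hvN : v ∈ N := mul_mem huN (inv_mem hxN)
  have hgv : g * v = v * g := by
    have h3 := hcomm u huN x₀⁻¹ (inv_mem hxN)
    have h4 := hcomm x₀ hxN x₀⁻¹ (inv_mem hxN)
    rw [e₀, ← h3, mul_inv_cancel, mul_one, mul_inv_cancel, inv_one, mul_one, eq_comm, mul_inv_eq_one,
      mul_inv_eq_iff_eq_mul] at h4
    exact h4
  -- `v` is not perpendicular to `c`
  have hcv : ¬ ∀ w ∈ X c, w * v = v * w := by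
    intro h
    refine h2 (D.one hc hy hu hu1 fun w hw => ?_)
    have h3 : w * x₀ = x₀ * w := (mem_centralizer_iff.1 (hcx hw) x₀ hx₀).symm
    have h4 : u = v * x₀ := by rw [hv]; group
    rw [h4]
    calc w * (v * x₀) = (w * v) * x₀ := by group
      _ = v * (w * x₀) := by rw [h w hw]; group
      _ = v * x₀ * w := by rw [h3]; group
  have hv1 : v ≠ 1 := by
    intro e
    exact hcv fun w _ => by rw [e]; simp
  obtain ⟨s, hs, hvs⟩ := D.vect hvN hv1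
  have hcs : ¬ X c ≤ centralizer (s : Set G) := fun h => hcv fun w hw => (mem_centralizer_iff.1 (h hw) v hvs).symm
  -- `s ⊥ x`
  have hxs : X x ≤ centralizer (s : Set G) := by
    refine D.one hx hs hvs hv1 fun w hw => ?_
    have h3 : w * u = u * w := (mem_centralizer_iff.1 (h1 hw) u hu).symm
    have h4 : w * x₀⁻¹ = x₀⁻¹ * w := D.Xp x hx w hw _ (inv_mem hx₀)
    rw [hv]
    calc w * (u * x₀⁻¹) = (w * u) * x₀⁻¹ := by group
      _ = u * (w * x₀⁻¹) := by rw [h3]; group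
      _ = u * x₀⁻¹ * w := by rw [h4]; group
  have hsx : X s ≤ centralizer (x : Set G) := D.sym hx hs hxs
  -- `g` fixes `s`
  have hgs : MulAut.conj g • s = s := by
    refine D.ti _ (hgm s hs) s hs v ⟨v, hvs, ?_⟩ hvs hv1
    change g * v * g⁻¹ = v
    rw [hgv, mul_inv_cancel_right]
  -- `s ⊥ [v₁, g]`
  have h3 : g * v₁ * g⁻¹ * v₁⁻¹ ≠ 1 := by
    intro e
    rw [mul_inv_eq_one, mul_inv_eq_iff_eq_mul] at e
    exact hne₁ e
  refine hcs (D.sym hs hc (D.one hs hc (hgN v₁ (D.le x hx hv₁)) h3 fun w hw => ?_))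
  have h4 : X s = MulAut.conj g • X s := by
    have := hgX s hs
    rwa [hgs] at this
  have h5 : w * (g * v₁ * g⁻¹) = (g * v₁ * g⁻¹) * w := by
    rw [h4] at hw
    obtain ⟨w₀, hw₀, rfl⟩ := hw
    have h6 : v₁ * w₀ = w₀ * v₁ := mem_centralizer_iff.1 (hsx hw₀) v₁ hv₁
    change g * w₀ * g⁻¹ * (g * v₁ * g⁻¹) = g * v₁ * g⁻¹ * (g * w₀ * g⁻¹)
    calc g * w₀ * g⁻¹ * (g * v₁ * g⁻¹) = g * (w₀ * v₁) * g⁻¹ := by group
      _ = g * (v₁ * w₀) * g⁻¹ := by rw [h6]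
      _ = _ := by group
  have h6 : w * v₁⁻¹ = v₁⁻¹ * w := (mem_centralizer_iff.1 (hsx hw) _ (inv_mem hv₁)).symm
  calc w * (g * v₁ * g⁻¹ * v₁⁻¹) = w * (g * v₁ * g⁻¹) * v₁⁻¹ := by group
    _ = (g * v₁ * g⁻¹) * (w * v₁⁻¹) := by rw [h5]; group
    _ = _ := by rw [h6]; group

end NG

end Cfsg.Agent.Omega.OM.PT.NgGeo
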