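import Cfsg.Agent.Omega.OM.PT.Far
import Cfsg.Agent.Omega.OM.PT.NgGeo

/-!
# Two types, no swap: `N_a` is a point-line geometry (helper918, TEXT W2 #24006 (5), (7); port of 384's `PG/PcK`)

`j` is the type of the points of `N_a`, `a` of type `j + 1`.  One-sided inputs:

* `Tr Z U j` : a point of type `j` in `U j` is `l • Z j`, `l` fixes `Z (j + 1)` and `U j`;
* `Pts Z U j` : every element `≠ 1` of `U j` lies in a point of `U j`;
* `Sur Z U j` : `[U j, y] = Z j` for `y ∈ Q_j` which moves `U j`;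
* `CoreP Z i` : `J ⊴ H_i`, `y² ∈ C(N_i)` for `y ∈ J` : `J` centralises `N_i`.

`gg_of` : if `X_u` moves `N_a` (`a ~ u`), `N_a` is a `GG`; `pcRad` : if also `a ≤ N_a`: contradiction.  All `q`.
-/

set_option autoImplicit false
set_option linter.unusedSectionVars false

namespace Cfsg.Agent.Omega.OM.PT.Pc

open Subgroup Cfsg Cfsg.Agent.ZN Cfsg.Agent.Omega.MinPar
open Cfsg.Agent.Omega.OM.PT
open Cfsg.Agent.Omega.OM.PG (HH QQ HH_conj QQ_conj conj_inv_conj inv_conj_conj)
open Cfsg.Agent.Omega.OM.PG.Peel (mem_cent_conj)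
open Cfsg.Agent.Omega.NO3S.EThree.ExactA (eab_iff eab_sup eab_mono)
open Cfsg.Agent.Omega.NoFF.Basic (conj_conj mem_conj conj_le_iff conj_le_centralizer comm_symm comm_mono)
open Cfsg.Agent.Omega.NOThreeL.Pair (conj_eq_of_mem)
open Cfsg.Agent.Omega.OmThm.Grp (GG LnG)
open scoped Pointwise

universe u

variable {G : Type u} [Group G]

/-- `O_2(H_i / C(N_i)) = 1`, for squares -/
def CoreP (Z : Fin 2 → Subgroup G) (i : Fin 2) : Prop :=
  ∀ J : Subgroup G, J ≤ HH (Z i) → HH (Z i) ≤ normalizer (J : Set G) →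
    (∀ y ∈ J, y * y ∈ centralizer (NN Z (Z i) : Set G)) → J ≤ centralizer (NN Z (Z i) : Set G)

/-- `CoreP` at `a` -/
def CoreA (Z : Fin 2 → Subgroup G) (a : Subgroup G) : Prop :=
  ∀ J : Subgroup G, J ≤ HH a → HH a ≤ normalizer (J : Set G) →
    (∀ y ∈ J, y * y ∈ centralizer (NN Z a : Set G)) → J ≤ centralizer (NN Z a : Set G)

theorem CoreP.conj {Z : Fin 2 → Subgroup G} {i : Fin 2} (h : CoreP Z i) (g : G) : CoreA Z (MulAut.conj g • Z i) := by
  intro J hJ hN hsq
  have e : ∀ A : Subgroup G, MulAut.conj g • (MulAut.conj g⁻¹ • A) = A := fun A => conj_inv_conj g A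
  have h1 : MulAut.conj g⁻¹ • J ≤ HH (Z i) := by
    have h2 := conj_le_iff (g := g⁻¹) |>.2 hJ
    rwa [HH_conj, inv_conj_conj] at h2
  have h2 : HH (Z i) ≤ normalizer ((MulAut.conj g⁻¹ • J : Subgroup G) : Set G) := by
    intro x hx
    have h3 : g * x * g⁻¹ ∈ HH (MulAut.conj g • Z i) := by
      rw [HH_conj]
      exact ⟨x, hx, rfl⟩
    have h4 : MulAut.conj (g * x * g⁻¹) • J = J := conj_eq_of_mem (hN h3)
    refine ChoiceBase.mem_normalizer_iff_cj.2 ?_
    change MulAut.conj x • (MulAut.conj g⁻¹ • J) = MulAut.conj g⁻¹ • J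
    rw [conj_conj]
    have h5 : MulAut.conj g⁻¹ • J = MulAut.conj g⁻¹ • (MulAut.conj (g * x * g⁻¹) • J) := by rw [h4]
    rw [h5, conj_conj]
    have h6 : g⁻¹ * (g * x * g⁻¹) = x * g⁻¹ := by group
    rw [h6]
  have h3 : MulAut.conj g⁻¹ • J ≤ centralizer (NN Z (Z i) : Set G) := by
    refine h _ h1 h2 ?_
    rintro _ ⟨y, hy, rfl⟩
    have h4 := hsq y hy
    rw [NN_conj] at h4
    have h5 : g⁻¹ * (y * y) * g ∈ centralizer (NN Z (Z i) : Set G) := by
      refine (mem_cent_conj (g := g)).1 ?_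
      have e1 : g * (g⁻¹ * (y * y) * g) * g⁻¹ = y * y := by group
      rw [e1]
      exact h4
    change g⁻¹ * y * g⁻¹⁻¹ * (g⁻¹ * y * g⁻¹⁻¹) ∈ _
    have e1 : g⁻¹ * y * g⁻¹⁻¹ * (g⁻¹ * y * g⁻¹⁻¹) = g⁻¹ * (y * y) * g := by group
    rwa [e1]
  have h4 := conj_le_centralizer (g := g) h3
  rwa [e, ← NN_conj] at h4

/-- a point of type `j` in the line `U j` -/
def Tr (Z U : Fin 2 → Subgroup G) (j : Fin 2) : Prop :=
  ∀ k : G, MulAut.conj k • Z j ≤ U j → ∃ l : G, MulAut.conj l • Z j = MulAut.conj k • Z j ∧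
    MulAut.conj l • Z (j + 1) = Z (j + 1) ∧ MulAut.conj l • U j = U j

/-- every element `≠ 1` of `U j` lies in a point of `U j` -/
def Pts (Z U : Fin 2 → Subgroup G) (j : Fin 2) : Prop :=
  ∀ x ∈ U j, x ≠ 1 → ∃ k : G, MulAut.conj k • Z j ≤ U j ∧ x ∈ MulAut.conj k • Z j

/-- `[U j, y] = Z j` for `y ∈ Q_j` moving `U j` -/
def Sur (Z U : Fin 2 → Subgroup G) (j : Fin 2) : Prop :=
  ∀ y ∈ QQ (Z j), y ∉ centralizer (U j : Set G) → ∀ z ∈ Z j, ∃ x ∈ U j, x * y * x⁻¹ * y⁻¹ = z

theorem Sur.ln {Z U : Fin 2 → Subgroup G} {j : Fin 2} (hS : Sur Z U j) {k : G} {y : G}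
    (hy : y ∈ QQ (MulAut.conj k • Z j)) (hyl : y ∉ centralizer ((MulAut.conj k • U j : Subgroup G) : Set G)) {z : G}
    (hz : z ∈ MulAut.conj k • Z j) : ∃ x ∈ (MulAut.conj k • U j : Subgroup G), x * y * x⁻¹ * y⁻¹ = z := by
  rw [QQ_conj] at hy
  obtain ⟨y0, hy0, rfl⟩ := hy
  obtain ⟨z0, hz0, rfl⟩ := hz
  have h1 : y0 ∉ centralizer (U j : Set G) := fun h1 => hyl ((mem_cent_conj (g := k)).2 h1)
  obtain ⟨x0, hx0, e⟩ := hS y0 hy0 h1 z0 hz0
  refine ⟨k * x0 * k⁻¹, ⟨x0, hx0, rfl⟩, ?_⟩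
  change k * x0 * k⁻¹ * (k * y0 * k⁻¹) * (k * x0 * k⁻¹)⁻¹ * (k * y0 * k⁻¹)⁻¹ = k * z0 * k⁻¹
  rw [← e]
  group

section forms

variable {Z U : Fin 2 → Subgroup G}

/-- `a` of type `j + 1`, `c` of type `j`, adjacent -/
def Aj (Z : Fin 2 → Subgroup G) (j : Fin 2) (a c : Subgroup G) : Prop :=
  ∃ g : G, a = MulAut.conj g • Z (j + 1) ∧ c = MulAut.conj g • Z j

theorem Aj.adj {j : Fin 2} {a c : Subgroup G} (h : Aj Z j a c) : Adj Z a c := by
  obtain ⟨g, h1, h2⟩ := h
  exact Adj.symm ⟨j, g, h2, h1⟩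

theorem Aj.conj {j : Fin 2} {a c : Subgroup G} (h : Aj Z j a c) (k : G) :
    Aj Z j (MulAut.conj k • a) (MulAut.conj k • c) := by
  obtain ⟨g, rfl, rfl⟩ := h
  exact ⟨k * g, conj_conj _ _ _, conj_conj _ _ _⟩

/-- the neighbours of a point of type `j + 1` -/
theorem adj_form (P : PP Z U) {j : Fin 2} {a p : Subgroup G} (ha : ∃ g : G, a = MulAut.conj g • Z (j + 1))
    (h : Adj Z a p) : Aj Z j a p := by
  obtain ⟨g, hg⟩ := ha
  have h1 : Adj Z a (MulAut.conj g • Z j) := Adj.symm ⟨j, g, rfl, hg⟩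
  obtain ⟨s, h2, h3⟩ := P.con h1 h
  refine ⟨s * g, ?_, ?_⟩
  · rw [← conj_conj, ← hg, h2]
  · rw [← conj_conj, h3]

/-- the neighbours of a point of type `j` -/
theorem adj_form' (P : PP Z U) {j : Fin 2} {c b : Subgroup G} (hc : ∃ g : G, c = MulAut.conj g • Z j)
    (h : Adj Z b c) : Aj Z j b c := by
  obtain ⟨g, hg⟩ := hc
  have h1 : Adj Z c (MulAut.conj g • Z (j + 1)) := ⟨j, g, hg, rfl⟩
  obtain ⟨s, h2, h3⟩ := P.con h1 h.symm
  refine ⟨s * g, ?_, ?_⟩
  · rw [← conj_conj, h3]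
  · rw [← conj_conj, ← hg, h2]

/-- the lines on a point of type `j` -/
theorem ln_form (P : PP Z U) {j : Fin 2} {p l : Subgroup G} {g : G} (hp : p = MulAut.conj g • Z j)
    (h : LnOn Z U p l) : ∃ k : G, p = MulAut.conj k • Z j ∧ l = MulAut.conj k • U j := by
  have h1 : LnOn Z U p (MulAut.conj g • U j) := ⟨j, g, hp, rfl⟩
  obtain ⟨s, h2, h3⟩ := P.con_ln h1 h
  refine ⟨s * g, ?_, ?_⟩
  · rw [← conj_conj, ← hp, h2]
  · rw [← conj_conj, h3]

/-- a point of type `j` of a line of type `j` : the line is a line on it -/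
theorem ln_of_le {j : Fin 2} (hT : Tr Z U j) {k m : G} (h : MulAut.conj m • Z j ≤ MulAut.conj k • U j) :
    LnOn Z U (MulAut.conj m • Z j) (MulAut.conj k • U j) := by
  have h4 : MulAut.conj (k⁻¹ * m) • Z j ≤ U j := by
    have h5 := conj_le_iff (g := k⁻¹) |>.2 h
    rwa [conj_conj, inv_conj_conj] at h5
  obtain ⟨l, hl0, hl1, hl2⟩ := hT _ h4
  refine ⟨j, k * l, ?_, ?_⟩
  · rw [← conj_conj k l, hl0, conj_conj, mul_inv_cancel_left]
  · rw [← conj_conj k l, hl2]

/-- the points of a line of `N_a` are neighbours of `a` -/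
theorem adj_of_line {j : Fin 2} (hT : Tr Z U j) {k m : G} (h : MulAut.conj m • Z j ≤ MulAut.conj k • U j) :
    Adj Z (MulAut.conj k • Z (j + 1)) (MulAut.conj m • Z j) := by
  have h4 : MulAut.conj (k⁻¹ * m) • Z j ≤ U j := by
    have h5 := conj_le_iff (g := k⁻¹) |>.2 h
    rwa [conj_conj, inv_conj_conj] at h5
  obtain ⟨l, hl0, hl1, hl2⟩ := hT _ h4
  refine Adj.symm ⟨j, k * l, ?_, ?_⟩
  · rw [← conj_conj k l, hl0, conj_conj, mul_inv_cancel_left]
  · rw [← conj_conj k l, hl1]

end forms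

section main

variable [Finite G] {Z U : Fin 2 → Subgroup G} (P : PP Z U)
include P

/-- If `X_u` moves `N_a`, `a` of type `j + 1`, then `N_a` with its points and the `X_p` is a `GG`. -/
theorem gg_of (F : XF Z (XW Z U)) (hcom : ∀ a u : Subgroup G, Adj Z a u → Com Z a u) (hti : TIp Z) {j : Fin 2}
    (hT : Tr Z U j) (hS : Sur Z U j) (hpts : Pts Z U j) (hcard : Nat.card (U j) = Nat.card (Z j) * Nat.card (Z j))
    (hcore : CoreP Z (j + 1)) {a u : Subgroup G} (hau : Aj Z j a u)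
    (hmov : ¬ XW Z U u ≤ centralizer (NN Z a : Set G)) :
    GG (NN Z a) {p | Adj Z a p} (XW Z U) (Nat.card (Z j)) := by
  have hu : Adj Z a u := hau.adj
  have h0 : IsPt Z a := hu.pt
  have hag : ∃ g : G, a = MulAut.conj g • Z (j + 1) := ⟨hau.choose, hau.choose_spec.1⟩
  have hcoreA : CoreA Z a := by
    obtain ⟨g, hg⟩ := hag
    rw [hg]
    exact hcore.conj g
  set X := XW Z U with hXdef
  set N := NN Z a with hN
  set Pt : Set (Subgroup G) := {p | Adj Z a p} with hPt
  have hNe := eab_iff.1 (P.NN_eab h0)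
  have hNQ : ∀ p, Adj Z a p → N ≤ QQ p := fun p hp =>
    P.f3 hp.symm (P.NN_le_QQ h0) (hcom _ _ hp)
  have hXa : ∀ p, Adj Z a p → X p ≤ centralizer (a : Set G) := fun p hp =>
    (F.XQ p hp.pt').trans (P.QQ_le_cent_of_adj hp)
  have hXH : ∀ p, Adj Z a p → X p ≤ HH a := fun p hp => (hXa p hp).trans (centralizer_le_normalizer _)
  have hw0 : ∀ p, Adj Z a p → ∀ w ∈ X p, MulAut.conj w • a = a := fun p hp w hw =>
    conj_eq_of_mem (hXH p hp hw)
  have hmv : ∀ p ∈ Pt, ∀ w ∈ X p, ∀ x ∈ Pt, MulAut.conj w • x ∈ Pt := by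
    intro p hp w hw x hx
    have h1 := Adj.conj hx w
    rw [hw0 p hp w hw] at h1
    exact h1
  have hXX : ∀ p, Adj Z a p → ∀ x ∈ X p, ∀ y ∈ X p, x * y = y * x := fun p hp x hx y hy =>
    mem_centralizer_iff.1 ((eab_iff.1 (F.eab p hp.pt')).1 hy) x hx
  -- all pairs are conjugate
  have hcx : ∀ p ∈ Pt, ∃ k : G, MulAut.conj k • a = a ∧ MulAut.conj k • N = N ∧ MulAut.conj k • X u = X p := by
    intro p hp
    obtain ⟨k, h1, h2⟩ := P.con hu hp
    refine ⟨k, h1, by rw [hN, ← NN_conj, h1], ?_⟩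
    rw [← F.conj k _ hu.pt', h2]
  -- the killed vectors
  set Y : Subgroup G := ⨆ p : {p : Subgroup G // Adj Z a p}, X p with hY
  have hYle : ∀ p, Adj Z a p → X p ≤ Y := fun p hp =>
    le_iSup (fun p : {p : Subgroup G // Adj Z a p} => X p) ⟨p, hp⟩
  have hYc : Y ≤ centralizer (a : Set G) := iSup_le fun p => hXa p p.2
  have hYH : Y ≤ HH a := hYc.trans (centralizer_le_normalizer _)
  have hHY : HH a ≤ normalizer (Y : Set G) := by
    have key : ∀ g ∈ HH a, MulAut.conj g • Y ≤ Y := by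
      intro g hg
      have hg0 : MulAut.conj g • a = a := conj_eq_of_mem hg
      have h1 : Y ≤ MulAut.conj g⁻¹ • Y := by
        refine iSup_le fun p => ?_
        have h2 : Adj Z a (MulAut.conj g • (p : Subgroup G)) := by
          have := p.2.conj g
          rwa [hg0] at this
        have h3 := conj_le_iff (g := g⁻¹) |>.2 (hYle _ h2)
        rwa [F.conj g _ p.2.pt', inv_conj_conj] at h3
      have h2 := conj_le_iff (g := g) |>.2 h1
      rwa [conj_inv_conj] at h2
    intro g hg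
    refine ChoiceBase.mem_normalizer_iff_cj.2 (le_antisymm (key g hg) ?_)
    have h2 := conj_le_iff (g := g) |>.2 (key g⁻¹ (inv_mem hg))
    rwa [conj_inv_conj] at h2
  set K : Subgroup G := N ⊓ centralizer (Y : Set G) with hK
  have hKH : HH a ≤ normalizer (K : Set G) :=
    NO3L.LemP.le_normalizer_inf (PP.HH_le_NN _) (hHY.trans (NO3L.LemP.normalizer_le_normalizer_cent Y))
  have hNH : HH a ≤ normalizer (N : Set G) := PP.HH_le_NN _
  -- the group acting trivially on `N / K` and `K`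
  let J : Subgroup G :=
    { carrier := {g | g ∈ HH a ∧ (∀ n ∈ N, g * n * g⁻¹ * n⁻¹ ∈ K) ∧ ∀ k ∈ K, g * k = k * g}
      one_mem' := ⟨one_mem _, fun n _ => by simp, fun k _ => by rw [one_mul, mul_one]⟩
      mul_mem' := by
        rintro g g' ⟨h1, h2, h3⟩ ⟨h4, h5, h6⟩
        refine ⟨mul_mem h1 h4, fun n hn => ?_, fun k hk => ?_⟩
        · have e : g * g' * n * (g * g')⁻¹ * n⁻¹ = g * (g' * n * g'⁻¹ * n⁻¹) * g⁻¹ * (g * n * g⁻¹ * n⁻¹) := by group
          rw [e]
          exact mul_mem ((mem_normalizer_iff.1 (hKH h1) _).1 (h5 n hn)) (h2 n hn)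
        · rw [mul_assoc, h6 k hk, ← mul_assoc, h3 k hk, mul_assoc]
      inv_mem' := by
        rintro g ⟨h1, h2, h3⟩
        refine ⟨inv_mem h1, fun n hn => ?_, fun k hk => ?_⟩
        · have hn' : g⁻¹ * n * g ∈ N := by
            have := (mem_normalizer_iff.1 (hNH (inv_mem h1)) n).1 hn
            rwa [inv_inv] at this
          have h4 := h2 _ hn'
          have e : g⁻¹ * n * g⁻¹⁻¹ * n⁻¹ = (g * (g⁻¹ * n * g) * g⁻¹ * (g⁻¹ * n * g)⁻¹)⁻¹ := by group
          rw [e]
          exact inv_mem h4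
        · have h4 := h3 k hk
          calc g⁻¹ * k = g⁻¹ * (k * g) * g⁻¹ := by group
            _ = g⁻¹ * (g * k) * g⁻¹ := by rw [h4]
            _ = k * g⁻¹ := by group }
  have hJH : J ≤ HH a := fun g hg => hg.1
  have hHJ : HH a ≤ normalizer (J : Set G) := by
    have key : ∀ x ∈ HH a, ∀ g ∈ J, x * g * x⁻¹ ∈ J := by
      rintro x hx g ⟨h1, h2, h3⟩
      refine ⟨mul_mem (mul_mem hx h1) (inv_mem hx), fun n hn => ?_, fun k hk => ?_⟩
      · have hn' : x⁻¹ * n * x ∈ N := by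
          have := (mem_normalizer_iff.1 (hNH (inv_mem hx)) n).1 hn
          rwa [inv_inv] at this
        have h4 := (mem_normalizer_iff.1 (hKH hx) _).1 (h2 _ hn')
        have e : x * (g * (x⁻¹ * n * x) * g⁻¹ * (x⁻¹ * n * x)⁻¹) * x⁻¹ = x * g * x⁻¹ * n * (x * g * x⁻¹)⁻¹ * n⁻¹ := by
          group
        rwa [e] at h4
      · have hk' : x⁻¹ * k * x ∈ K := by
          have := (mem_normalizer_iff.1 (hKH (inv_mem hx)) k).1 hk
          rwa [inv_inv] at this
        have h4 := h3 _ hk'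
        calc x * g * x⁻¹ * k = x * (g * (x⁻¹ * k * x)) * x⁻¹ := by group
          _ = x * (x⁻¹ * k * x * g) * x⁻¹ := by rw [h4]
          _ = k * (x * g * x⁻¹) := by group
    intro x hx
    rw [mem_normalizer_iff]
    intro g
    refine ⟨key x hx g, fun h => ?_⟩
    have h1 := key x⁻¹ (inv_mem hx) _ h
    have e : x⁻¹ * (x * g * x⁻¹) * x⁻¹⁻¹ = g := by group
    rwa [e] at h1
  have hJN : J ≤ centralizer (N : Set G) := by
    refine hcoreA J hJH hHJ ?_
    rintro g ⟨-, h2, h3⟩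
    refine mem_centralizer_iff.2 fun n hn => ?_
    have hk := h2 n hn
    have e1 := h3 _ hk
    have e2 := hNe.2 _ hk.1
    rw [pow_two] at e2
    set k := g * n * g⁻¹ * n⁻¹ with hkdef
    have e3 : g * n * g⁻¹ = k * n := by rw [hkdef]; group
    have e4 : g * g * n * (g * g)⁻¹ = n := by
      calc g * g * n * (g * g)⁻¹ = g * (g * n * g⁻¹) * g⁻¹ := by group
        _ = (g * k) * n * g⁻¹ := by rw [e3]; group
        _ = k * (g * n * g⁻¹) := by rw [e1]; group
        _ = (k * k) * n := by rw [e3]; group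
        _ = n := by rw [e2, one_mul]
    calc n * (g * g) = (g * g * n * (g * g)⁻¹) * (g * g) := by rw [e4]
      _ = g * g * n := by group
  have hcZ : Nat.card (Z j) ≠ 1 := fun h => P.ne j (Subgroup.card_eq_one.1 h)
  have hcZ0 : 0 < Nat.card (Z j) := Nat.card_pos
  have hcp : ∀ p ∈ Pt, Nat.card p = Nat.card (Z j) := by
    intro p hp
    obtain ⟨g, -, rfl⟩ := adj_form P hag hp
    exact ZN.ChoiceBase.card_cj g _
  exact
    { comm := fun x hx y hy => mem_centralizer_iff.1 (hNe.1 hy) x hx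
      sq := fun x hx => by rw [← pow_two]; exact hNe.2 x hx
      le := fun p hp => Adj.le_NN hp
      card := hcp
      ti := by
        intro p hp x hx v hvp hvx hv1
        by_contra hne
        exact hv1 (ti_one hti (Adj.pt' hp) (Adj.pt' hx) hne hvp hvx)
      XN := fun p hp w hw v hv => F.com p (Adj.pt' hp) w hw v (hNQ p hp hv)
      Xp := fun p hp w hw v hv => hXX p hp w hw v (F.aX p (Adj.pt' hp) hv)
      mv := hmv
      Xc := fun p hp w hw x hx => F.conj w x (Adj.pt' hx)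
      cardT := by
        have key : ∀ p ∈ Pt, (centralizer (N : Set G)).relIndex (X p) = (centralizer (N : Set G)).relIndex (X u) := by
          intro p hp
          obtain ⟨k, -, hkN, hkX⟩ := hcx p hp
          have e1 : MulAut.conj k • centralizer (N : Set G) = centralizer (N : Set G) := by
            have e2 : MulAut.conj k • centralizer (N : Set G) = centralizer ((MulAut.conj k • N : Subgroup G) : Set G) :=
              ZN.ChoiceBase.cj_centralizer k _
            rw [e2, hkN]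
          rw [← hkX]
          conv_lhs => rw [← e1]
          rw [relIndex_pointwise_smul]
        intro p hp x hx
        rw [key p hp, key x hx]
      span := le_rfl
      q2 := by omega
      sur := by
        intro p hp w hw b hb hne z hz
        -- some line on `p` does not centralise `b`
        obtain ⟨l, hl, hbl⟩ : ∃ l, LnOn Z U p l ∧ b ∉ centralizer (l : Set G) := by
          by_contra hcon
          push Not at hcon
          apply hne
          have h1 : XW Z U p ≤ centralizer ({b} : Set G) := by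
            refine sup_le (fun n hn => ?_) (iSup_le fun l n hn => ?_)
            · exact mem_centralizer_singleton_iff.2 (mem_centralizer_iff.1 ((hcom _ _ hp) hb) n hn)
            · exact mem_centralizer_singleton_iff.2 (mem_centralizer_iff.1 (hcon l l.2) n hn)
          exact mem_centralizer_singleton_iff.1 (h1 hw)
        obtain ⟨g, -, hpg⟩ := adj_form P hag hp
        obtain ⟨k, hk, rfl⟩ := ln_form P hpg hl
        have hbQ := hNQ p hp hb
        rw [hk] at hbQ hz
        obtain ⟨w', hw', e⟩ := hS.ln hbQ hbl hz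
        exact ⟨w', ln_le_XW hl hw', e⟩
      o2 := by
        intro x hx z hz w hw w' hw' h n hn
        have h1 : w' * w ∈ Y := mul_mem (hYle z hz hw') (hYle x hx hw)
        have h2 : w' * w ∈ J := by
          refine ⟨hYH h1, fun n hn => ?_, fun k hk => ?_⟩
          · refine ⟨N.mul_mem ((mem_normalizer_iff.1 (hNH (hYH h1)) n).1 hn) (N.inv_mem hn), ?_⟩
            have h3 : Y ≤ centralizer ({w' * w * n * (w' * w)⁻¹ * n⁻¹} : Set G) := iSup_le fun r y hy =>
              mem_centralizer_singleton_iff.2 (h n hn r r.2 y hy)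
            exact mem_centralizer_iff.2 fun y hy => mem_centralizer_singleton_iff.1 (h3 hy)
          · exact mem_centralizer_iff.1 hk.2 _ h1
        exact (mem_centralizer_iff.1 (hJN h2) n hn).symm
      line := by
        intro p hp
        obtain ⟨k, hk, rfl⟩ := adj_form P hag hp
        have hZV : MulAut.conj k • Z j ≤ MulAut.conj k • U j := conj_le_iff.2 (P.ZU j)
        have hcov : ∀ v ∈ (MulAut.conj k • U j : Subgroup G), v ≠ 1 → ∃ p ∈ Pt, p ≤ MulAut.conj k • U j ∧ v ∈ p := by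
          intro y hy hy1
          obtain ⟨y0, hy0, rfl⟩ := hy
          obtain ⟨m, hm, hym⟩ := hpts y0 hy0 (fun e => hy1 (by rw [e]; exact map_one _))
          have h1 : MulAut.conj (k * m) • Z j ≤ MulAut.conj k • U j := by
            rw [← conj_conj]
            exact conj_le_iff.2 hm
          refine ⟨MulAut.conj (k * m) • Z j, ?_, h1, ?_⟩
          · have h2 := adj_of_line hT h1
            rwa [← hk] at h2
          · rw [← conj_conj]
            exact ⟨y0, hym, rfl⟩
        have hVN : MulAut.conj k • U j ≤ N := by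
          intro v hv
          by_cases hv1 : v = 1
          · rw [hv1]; exact one_mem _
          obtain ⟨p, hp, -, hvp⟩ := hcov v hv hv1
          exact Adj.le_NN hp hvp
        have hcV : Nat.card (MulAut.conj k • U j : Subgroup G) = Nat.card (Z j) * Nat.card (Z j) := by
          rw [← hcard]
          exact ZN.ChoiceBase.card_cj _ _
        refine ⟨MulAut.conj k • U j, hZV, ⟨hVN, hcov, ?_, ?_, ?_⟩⟩
        · rintro p hp hpV x hx hxV
          obtain ⟨m, -, rfl⟩ := adj_form P hag hp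
          have h1 := ln_le_XW (ln_of_le hT hpV)
          exact (eab_iff.1 (F.eab _ (Adj.pt' hp))).1.trans (centralizer_le (hxV.trans h1))
        · intro p hp hpV x hx hxV hne
          have hdis : p ⊓ x = ⊥ := hti p x (Adj.pt' hp) (Adj.pt' hx) hne
          have hcomm : p ≤ centralizer (x : Set G) := ((Adj.le_NN hp).trans hNe.1).trans (centralizer_le (Adj.le_NN hx))
          have h1 := Cfsg.Agent.Omega.NO3S.ML.card_sup_mul_of_comm fun a ha b hb =>
            (mem_centralizer_iff.1 (hcomm ha) b hb).symm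
          rw [hdis, Subgroup.card_bot, mul_one, hcp p hp, hcp x hx] at h1
          exact (Subgroup.eq_of_le_of_card_ge (sup_le hpV hxV) (by rw [hcV, h1])).ge
        · intro p hp hpV
          have h1 : ¬ MulAut.conj k • U j ≤ p := by
            intro h
            have h2 := Subgroup.card_le_of_le h
            rw [hcV, hcp p hp] at h2
            nlinarith [Nat.lt_of_le_of_ne hcZ0 (Ne.symm hcZ)]
          obtain ⟨v, hv, hvp⟩ := SetLike.not_le_iff_exists.1 h1
          obtain ⟨x, hx, hxV, hvx⟩ := hcov v hv fun e => hvp (e ▸ one_mem _)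
          exact ⟨x, hx, hxV, fun e => hvp (e ▸ hvx)⟩
      mov := by
        intro p hp hcon
        obtain ⟨k, -, hkN, hkX⟩ := hcx p hp
        apply hmov
        rw [← hkX, ← hkN] at hcon
        have h1 := Cfsg.Agent.Omega.NoFF.Basic.conj_le_centralizer (g := k⁻¹) hcon
        rwa [inv_conj_conj, inv_conj_conj] at h1 }

/-- **PC, radical side**, for `a` of type `j + 1`. -/
theorem pcRad (F : XF Z (XW Z U)) (hcom : ∀ a u : Subgroup G, Adj Z a u → Com Z a u) (hti : TIp Z) {j : Fin 2}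
    (hT : Tr Z U j) (hS : Sur Z U j) (hpts : Pts Z U j) (hcard : Nat.card (U j) = Nat.card (Z j) * Nat.card (Z j))
    (hcore : CoreP Z (j + 1)) (hrad : Z (j + 1) ≤ NN Z (Z (j + 1))) {a u : Subgroup G} (hu : Aj Z j a u) :
    XW Z U u ≤ centralizer (NN Z a : Set G) := by
  by_contra hmov
  obtain ⟨z, hz, hz1⟩ : ∃ z ∈ a, z ≠ 1 := by
    by_contra hcon
    push Not at hcon
    exact P.pt_ne hu.adj.pt ((eq_bot_iff_forall _).2 hcon)
  have ha : a ≤ NN Z a := by
    obtain ⟨g, rfl, -⟩ := hu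
    rw [NN_conj]
    exact conj_le_iff.2 hrad
  exact hz1 ((gg_of P F hcom hti hT hS hpts hcard hcore hu hmov).eq_one (ha hz) fun p hp w hw =>
    (mem_centralizer_iff.1 (((F.XQ p (Adj.pt' hp)).trans (P.QQ_le_cent_of_adj hp)) hw) z hz).symm)

end main

end Cfsg.Agent.Omega.OM.PT.Pc
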