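import Cfsg.Agent.Omega.OM.PT.Base

/-!
# Two types, no swap: least distance at least 3 is impossible (helper918, TEXT W2 #24006 (8); port of `EThree/ExactA`,
`OM/PG/Peel`, `OM/PG/PeelQ`)

* `NoP`, `TIp`, `NobX`, `ThmC2`, `TB`, `FixN`: the inputs;
* `mm_adj`, `exact'`, `moves` : `r(Q_a) = r(Q_u)`; some `A ∈ AA Q_a` moves `N_u` (both types, from `TB`);
* `tb_of`, `false_of_three`, `exists_least`.
-/

set_option autoImplicit false
set_option linter.unusedSectionVars false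

namespace Cfsg.Agent.Omega.OM.PT

open Subgroup Cfsg Cfsg.Agent.ZN Cfsg.Agent.Omega.MinPar
open Cfsg.Agent.Omega.OM.PG (HH QQ HH_conj QQ_conj conj_inv_conj inv_conj_conj)
open Cfsg.Agent.Omega.NO3S.EThree.ExactA (eab_iff eab_sup eab_mono swp no_sup MinA exists_minA)
open Cfsg.Agent.Omega.OM.PG.Peel (Nob Exa nob_of_le nob_of exa_peel exists_mul_of_comm mem_cent_conj not_le_iSup)
open Cfsg.Agent.ZN.ChoiceBase (AA mm mm_eq mem_AA_iff AA_nonempty card_le_mm cj_mem_AA mm_cj mm_mono)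
open Cfsg.Agent.Omega.NoFF.Basic (conj_conj mem_conj conj_le_iff conj_le_centralizer comm_symm comm_mono)
open Cfsg.Agent.Omega.NO3S.ML (card_mul_relIndex card_sup_mul_of_comm)
open Cfsg.Agent.Omega.NOThreeL.Pair (conj_eq_of_mem)
open scoped Pointwise

universe u

variable {G : Type u} [Group G]

/-- `(NO)` for `Q_a` on `N_u`, `a ~ u`. -/
def NoP (Z : Fin 2 → Subgroup G) : Prop :=
  ∀ a u : Subgroup G, Adj Z a u → ∀ B : Subgroup G, IsElementaryAbelian 2 B → B ≤ QQ a → Nob (NN Z u) B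

/-- THEOREM C for 2-subgroups of `C(a)`. -/
def ThmC2 (Z : Fin 2 → Subgroup G) (X : Subgroup G → Subgroup G) : Prop :=
  ∀ a : Subgroup G, IsPt Z a → ∀ B : Subgroup G, IsPGroup 2 B → B ≤ centralizer (a : Set G) →
    (∀ x ∈ X a, ∀ g ∈ B, x * g * x⁻¹ * g⁻¹ ∈ NN Z a) → B ≤ centralizer (NN Z a : Set G)

/-- `B ∈ AA Q_a`, `a ~ u`, `C_B(N_u)` centralises `X_u`: `B` centralises `N_u` -/
def TB (Z : Fin 2 → Subgroup G) (X : Subgroup G → Subgroup G) : Prop :=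
  ∀ a u : Subgroup G, Adj Z a u → ∀ B ∈ AA (QQ a),
    B ⊓ centralizer (NN Z u : Set G) ≤ centralizer (X u : Set G) → B ≤ centralizer (NN Z u : Set G)

/-- points are t.i. -/
def TIp (Z : Fin 2 → Subgroup G) : Prop :=
  ∀ a b : Subgroup G, IsPt Z a → IsPt Z b → a ≠ b → a ⊓ b = ⊥

/-- `(NO)` for `Q_a` on `X_a` -/
def NobX (Z : Fin 2 → Subgroup G) (X : Subgroup G → Subgroup G) : Prop :=
  ∀ a : Subgroup G, IsPt Z a → ∀ B : Subgroup G, IsElementaryAbelian 2 B → B ≤ QQ a → Nob (X a) B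

/-- an element of `Q_b` which normalises all points `u ~ a` centralises `N_a`, `a ~ b` -/
def FixN (Z : Fin 2 → Subgroup G) : Prop :=
  ∀ a b : Subgroup G, Adj Z a b → ∀ x ∈ QQ b, (∀ u : Subgroup G, Adj Z a u → MulAut.conj x • u = u) →
    x ∈ centralizer (NN Z a : Set G)

/-- some `A ∈ AA Q_a` moves `N_u`, `a ~ u` -/
def Mvs (Z : Fin 2 → Subgroup G) : Prop :=
  ∀ a u : Subgroup G, Adj Z a u → ∃ A ∈ AA (QQ a), ¬ A ≤ centralizer (NN Z u : Set G)

theorem ti_one {Z : Fin 2 → Subgroup G} (hti : TIp Z) {a b : Subgroup G} (ha : IsPt Z a) (hb : IsPt Z b)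
    (hne : a ≠ b) {x : G} (hxa : x ∈ a) (hxb : x ∈ b) : x = 1 := by
  have h1 : x ∈ a ⊓ b := ⟨hxa, hxb⟩
  rwa [hti a b ha hb hne, mem_bot] at h1

variable [Finite G]

/-! ### `EThree/ExactA` -/

section exactA

variable {Z U : Fin 2 → Subgroup G} (P : PP Z U)

include P

/-- `N_a ≤ A` for `A ∈ AA Q_a`. -/
theorem NN_le {a A : Subgroup G} (h : IsPt Z a) (hA : A ∈ AA (QQ a)) : NN Z a ≤ A := by
  have h1 : IsElementaryAbelian 2 (A ⊔ NN Z a : Subgroup G) :=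
    eab_sup hA.1 (P.NN_eab h) (hA.2.1.trans (P.QQ_le_cent h))
  have h2 := hA.2.2 _ h1 (sup_le hA.2.1 (P.NN_le_QQ h))
  have h3 : A = A ⊔ NN Z a := Subgroup.eq_of_le_of_card_ge le_sup_left h2
  rw [h3]
  exact le_sup_right

/-- `J(Q_i) ≠ 1` -/
theorem jj_ne (i : Fin 2) : jj (QQ (Z i)) ≠ ⊥ := by
  intro e
  obtain ⟨A, hA⟩ := AA_nonempty (QQ (Z i))
  have h1 : A = ⊥ := by
    rw [eq_bot_iff, ← e]
    exact ChoiceBase.le_jj hA
  have h2 := NN_le P (isPt Z i) hA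
  rw [h1] at h2
  exact P.ne (i + 1) (le_bot_iff.1 ((adj Z i).le_NN.trans h2))

theorem exact0 (hC : ∀ a u : Subgroup G, Adj Z a u → Com Z a u) (hNO : NoP Z) {a u A : Subgroup G} (h : Adj Z a u)
    (hA : A ∈ AA (QQ a)) :
    (centralizer (NN Z u : Set G)).relIndex A = (centralizer (A : Set G)).relIndex (NN Z u) ∧
      NN Z u ⊓ centralizer (A : Set G) ≤ A ∧
      (A ⊓ centralizer (NN Z u : Set G)) ⊔ NN Z u ∈ AA (QQ a) ∧
      (A ⊓ centralizer (NN Z u : Set G)) ⊔ NN Z u ≤ QQ u := by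
  have hu := h.pt'
  have h1 : NN Z u ≤ QQ a := P.f3 h (P.NN_le_QQ hu) (comm_symm (hC a u h))
  obtain ⟨h2, h3, h4⟩ := swp (P.NN_eab hu) h1 hA (hNO a u h A hA.1 hA.2.1)
  refine ⟨h2, h3, h4, ?_⟩
  exact P.f3 h.symm h4.2.1 (sup_le inf_le_right (P.NN_comm hu))

theorem mm_le (hC : ∀ a u : Subgroup G, Adj Z a u → Com Z a u) (hNO : NoP Z) {a u : Subgroup G} (h : Adj Z a u) :
    mm (QQ a) ≤ mm (QQ u) := by
  obtain ⟨A, hA⟩ := AA_nonempty (QQ a)
  obtain ⟨-, -, h1, h2⟩ := exact0 P hC hNO h hA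
  rw [mm_eq h1]
  exact card_le_mm h1.1 h2

/-- `r(Q_a) = r(Q_u)` -/
theorem mm_adj (hC : ∀ a u : Subgroup G, Adj Z a u → Com Z a u) (hNO : NoP Z) {a u : Subgroup G} (h : Adj Z a u) :
    mm (QQ a) = mm (QQ u) := le_antisymm (mm_le P hC hNO h) (mm_le P hC hNO h.symm)

/-- An `A ∈ AA Q_a` inside `Q_b` lies in `AA Q_b`, `a ~ b`. -/
theorem mem_AA_of_le (hC : ∀ a u : Subgroup G, Adj Z a u → Com Z a u) (hNO : NoP Z) {a b A : Subgroup G}
    (h : Adj Z a b) (hA : A ∈ AA (QQ a)) (hle : A ≤ QQ b) : A ∈ AA (QQ b) := by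
  rw [mem_AA_iff]
  exact ⟨hA.1, hle, by rw [mm_adj P hC hNO h.symm]; exact (mm_eq hA).le⟩

/-- **(2)** -/
theorem exact' (hC : ∀ a u : Subgroup G, Adj Z a u → Com Z a u) (hNO : NoP Z) {a u A : Subgroup G} (h : Adj Z a u)
    (hA : A ∈ AA (QQ a)) :
    (centralizer (NN Z u : Set G)).relIndex A = (centralizer (A : Set G)).relIndex (NN Z u) ∧
      NN Z u ⊓ centralizer (A : Set G) ≤ A ∧
      (A ⊓ centralizer (NN Z u : Set G)) ⊔ NN Z u ∈ AA (QQ a) ∧
      (A ⊓ centralizer (NN Z u : Set G)) ⊔ NN Z u ∈ AA (QQ u) := by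
  obtain ⟨h1, h2, h3, h4⟩ := exact0 P hC hNO h hA
  exact ⟨h1, h2, h3, mem_AA_of_le P hC hNO h h3 h4⟩

omit P in
theorem HH_le_jj (a : Subgroup G) : HH a ≤ normalizer (jj (QQ a) : Set G) := by
  intro g hg
  have h8 : MulAut.conj g • a = a := conj_eq_of_mem hg
  refine ChoiceBase.mem_normalizer_iff_cj.2 ?_
  have h9 : MulAut.conj g • jj (QQ a) = jj (MulAut.conj g • QQ a) := (ChoiceBase.jj_cj g (QQ a)).symm
  change MulAut.conj g • jj (QQ a) = jj (QQ a)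
  rw [h9, ← QQ_conj, h8]

/-- one of the two types moves the other one -/
theorem moves_or (hC : ∀ a u : Subgroup G, Adj Z a u → Com Z a u) (hNO : NoP Z) :
    ∃ i, ∃ A ∈ AA (QQ (Z i)), ¬ A ≤ centralizer (NN Z (Z (i + 1)) : Set G) := by
  by_contra hcon
  push Not at hcon
  have h1 : ∀ i, jj (QQ (Z i)) ≤ jj (QQ (Z (i + 1))) := by
    intro i
    rw [ChoiceBase.jj_eq, ChoiceBase.jj_eq]
    refine sSup_le fun A hA => le_sSup ?_
    exact mem_AA_of_le P hC hNO (adj Z i) hA (P.f3 (adj Z i).symm hA.2.1 (hcon i A hA))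
  have h2 : jj (QQ (Z 0)) = jj (QQ (Z 1)) := le_antisymm (h1 0) (h1 1)
  refine jj_ne P 0 (P.nonLoc (jj (QQ (Z 0))) ?_ (HH_le_jj _) ?_)
  · exact (MinSimple.VModule.o2_isPGroup _).to_le (ChoiceBase.jj_le _)
  · rw [h2]
    exact HH_le_jj _

/-- `A ∈ AA Q_a` moves `N_u`: some `B ∈ AA Q_u` moves `N_a` -/
theorem moves_symm (hC : ∀ a u : Subgroup G, Adj Z a u → Com Z a u) (hNO : NoP Z) (hB : TB Z (XW Z U))
    {a u A : Subgroup G} (h : Adj Z a u) (hA : A ∈ AA (QQ a)) (hm : ¬ A ≤ centralizer (NN Z u : Set G)) :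
    ∃ B ∈ AA (QQ u), ¬ B ≤ centralizer (NN Z a : Set G) := by
  obtain ⟨-, -, -, h1⟩ := exact' P hC hNO h hA
  set B := (A ⊓ centralizer (NN Z u : Set G)) ⊔ NN Z u with hBdef
  have h2 : ¬ B ≤ centralizer (XW Z U u : Set G) := fun h2 => hm (hB a u h A hA (le_sup_left.trans h2))
  obtain ⟨l, hl, hBl⟩ : ∃ l, LnOn Z U u l ∧ ¬ B ≤ centralizer (l : Set G) := by
    by_contra hcon
    push Not at hcon
    exact h2 (comm_symm (sup_le (comm_symm (h1.2.1.trans (P.QQ_le_cent h.pt')))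
      (iSup_le fun l => comm_symm (hcon l l.2))))
  obtain ⟨a', ha', hla⟩ := P.ln_le hl
  have h3 : ¬ B ≤ centralizer (NN Z a' : Set G) := fun h3 => hBl (h3.trans (centralizer_le hla))
  obtain ⟨g, hg1, hg2⟩ := P.con ha' h.symm
  refine ⟨MulAut.conj g • B, ?_, fun h4 => h3 ?_⟩
  · have h5 : MulAut.conj g • B ∈ AA (MulAut.conj g • QQ u) := cj_mem_AA g h1
    rwa [← QQ_conj, hg1] at h5
  · rw [← hg2, NN_conj] at h4
    have h5 := conj_le_centralizer (g := g⁻¹) h4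
    rwa [inv_conj_conj, inv_conj_conj] at h5

/-- **(G3)** -/
theorem moves (hC : ∀ a u : Subgroup G, Adj Z a u → Com Z a u) (hNO : NoP Z) (hB : TB Z (XW Z U)) : Mvs Z := by
  obtain ⟨i, A, hA, hm⟩ := moves_or P hC hNO
  have key : ∀ j, ∃ A ∈ AA (QQ (Z j)), ¬ A ≤ centralizer (NN Z (Z (j + 1)) : Set G) := by
    intro j
    rcases eq_or i j with rfl | rfl
    · exact ⟨A, hA, hm⟩
    · obtain ⟨B, hB1, hB2⟩ := moves_symm P hC hNO hB (adj Z i) hA hm
      refine ⟨B, hB1, ?_⟩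
      rwa [add2]
  rintro _ _ ⟨j, k, rfl, rfl⟩
  obtain ⟨A, hA, hm⟩ := key j
  refine ⟨MulAut.conj k • A, ?_, fun h4 => hm ?_⟩
  · rw [QQ_conj]
    exact cj_mem_AA k hA
  · rw [NN_conj] at h4
    have h5 := conj_le_centralizer (g := k⁻¹) h4
    rwa [inv_conj_conj, inv_conj_conj] at h5

end exactA

/-! ### `Peel`, `PeelQ` -/

section main

variable {Z U : Fin 2 → Subgroup G} (P : PP Z U) {X : Subgroup G → Subgroup G} (F : XF Z X)
  (hX : ∀ m ≤ 2, ∀ a b : Subgroup G, Pth Z m a b → X a ≤ centralizer (X b : Set G))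
  (hN : NobX Z X)

theorem NN_le_MM {Z : Fin 2 → Subgroup G} {a u : Subgroup G} (h : Adj Z a u) : NN Z u ≤ MM Z a :=
  le_iSup (fun u : {u : Subgroup G // Adj Z a u} => NN Z u) ⟨u, h⟩

include P F hX

omit [Finite G] in
theorem hC : ∀ m ≤ 2, ∀ a b : Subgroup G, Pth Z m a b → Com Z a b := fun m hm a b h =>
  ((F.NX a (PP.pth_pt h)).trans (hX m hm a b h)).trans (centralizer_le (F.NX b (PP.pth_pt' h)))

omit [Finite G] in
theorem hC1 : ∀ a u : Subgroup G, Adj Z a u → Com Z a u := fun _ _ h =>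
  hC P F hX 1 (by omega) _ _ (PP.pth_one h)

/-- `X_x ≤ Q_c` at distance `≤ 2` -/
theorem X_le_QQ : ∀ m ≤ 2, ∀ x c : Subgroup G, Pth Z m x c → X x ≤ QQ c := by
  intro m
  induction m with
  | zero =>
    intro _ x c hx
    cases hx with
    | zero h0 => exact F.XQ _ h0
  | succ m ih =>
    intro hm x c hx
    have h1 := hX _ hm x c hx
    have hcp := PP.pth_pt' hx
    cases hx with
    | succ h2 h3 =>
      exact P.f3 h3.symm (ih (by omega) _ _ h2) (h1.trans (centralizer_le (F.NX _ hcp)))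

omit P F hX in
theorem X_le_YY {a u : Subgroup G} (h : Adj Z a u) : X u ≤ YY Z X a :=
  le_iSup (fun u : {u : Subgroup G // Adj Z a u} => X u) ⟨u, h⟩

theorem YY_comm {a : Subgroup G} : YY Z X a ≤ centralizer (YY Z X a : Set G) := by
  refine iSup_le fun u => comm_symm (iSup_le fun v => ?_)
  exact hX 2 le_rfl _ _ (Pth.succ (PP.pth_one v.2.symm) u.2)

theorem YY_eab {a : Subgroup G} : IsElementaryAbelian 2 (YY Z X a) := by
  rw [eab_iff]
  refine ⟨YY_comm P F hX, NoFF.Lines.Geo.sq_of_comm (YY_comm P F hX) (ι := {u : Subgroup G // Adj Z a u})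
    (B := fun u => X u) (fun u => X_le_YY u.2) le_rfl fun u => (eab_iff.1 (F.eab _ u.2.pt')).2⟩

theorem YY_le_QQ {a : Subgroup G} : YY Z X a ≤ QQ a :=
  iSup_le fun u => X_le_QQ P F hX 1 (by omega) _ _ (PP.pth_one u.2.symm)

theorem YY_le_QQ' {a b : Subgroup G} (h : Adj Z a b) : YY Z X a ≤ QQ b :=
  iSup_le fun u => X_le_QQ P F hX 2 (by omega) _ _ (Pth.succ (PP.pth_one u.2.symm) h)

theorem MM_le_YY {a : Subgroup G} : MM Z a ≤ YY Z X a :=
  iSup_le fun u => (F.NX _ u.2.pt').trans (X_le_YY u.2)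

theorem NN_le_YY {a : Subgroup G} : NN Z a ≤ YY Z X a :=
  sSup_le fun _ hu => (F.aX _ (Adj.pt' hu)).trans (X_le_YY hu)

theorem MM_comm {a : Subgroup G} : MM Z a ≤ centralizer (MM Z a : Set G) := by
  refine iSup_le fun u => comm_symm (iSup_le fun v => ?_)
  exact hC P F hX 2 le_rfl _ _ (Pth.succ (PP.pth_one v.2.symm) u.2)

theorem MM_eab {a : Subgroup G} : IsElementaryAbelian 2 (MM Z a) := by
  rw [eab_iff]
  refine ⟨MM_comm P F hX, NoFF.Lines.Geo.sq_of_comm (MM_comm P F hX) (ι := {u : Subgroup G // Adj Z a u})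
    (B := fun u => NN Z u) (fun u => NN_le_MM u.2) le_rfl fun u => (eab_iff.1 (P.NN_eab u.2.pt')).2⟩

theorem MM_le_QQ {a : Subgroup G} : MM Z a ≤ QQ a :=
  iSup_le fun u => P.lemP (hC P F hX) 1 (by omega) _ _ (PP.pth_one u.2.symm)

/-- `(NO)` for `Q_a` on `M_a` -/
theorem MM_no (hNO : NoP Z) {a : Subgroup G} {B : Subgroup G} (hB : IsElementaryAbelian 2 B) (hBQ : B ≤ QQ a) :
    Nob (MM Z a) B :=
  no_sup (ι := {u : Subgroup G // Adj Z a u}) (N := fun u => NN Z u) (fun u => NN_le_MM u.2) le_rfl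
    (fun u B hB hBQ => hNO a u u.2 B hB hBQ) B hB hBQ

/-- `C_{Q_a}(M_a) ≤ Q_u` -/
theorem cent_MM_le {a u B : Subgroup G} (h : Adj Z a u) (hB : B ≤ QQ a) (hBM : B ≤ centralizer (MM Z a : Set G)) :
    B ≤ QQ u :=
  P.f3 h.symm hB (hBM.trans (centralizer_le (NN_le_MM h)))

include hN

/-- `(NO)` for `C_{Q_a}(M_a)` on `Y_a` -/
theorem nobY0 {a B : Subgroup G} (hB : IsElementaryAbelian 2 B) (hBQ : B ≤ QQ a)
    (hBM : B ≤ centralizer (MM Z a : Set G)) : Nob (YY Z X a) B := by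
  refine no_sup (ι := {u : Subgroup G // Adj Z a u}) (N := fun u => X u) (M := YY Z X a)
    (Q := QQ a ⊓ centralizer (MM Z a : Set G)) (fun u => X_le_YY u.2) le_rfl (fun u B hB hBQ => ?_) B hB (le_inf hBQ hBM)
  exact hN _ u.2.pt' _ hB (cent_MM_le P F hX u.2 (hBQ.trans inf_le_left) (hBQ.trans inf_le_right))

variable (hNO : NoP Z)
include hNO

/-- `(NO)` for `Q_a` on `Y_a` -/
theorem nobY1 {a B : Subgroup G} (hB : IsElementaryAbelian 2 B) (hBQ : B ≤ QQ a) : Nob (YY Z X a) B :=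
  nob_of (MM_le_YY P F hX) (MM_no P F hX hNO hB hBQ)
    (nobY0 P F hX hN (eab_mono hB inf_le_left) (inf_le_left.trans hBQ) inf_le_right)

/-- `(NO)` for `Q_b` on `Y_a`, `a ~ b` -/
theorem nobY2 {a b B : Subgroup G} (h : Adj Z a b) (hB : IsElementaryAbelian 2 B) (hBQ : B ≤ QQ b) :
    Nob (YY Z X a) B :=
  nob_of (NN_le_YY P F hX) (hNO b a h.symm B hB hBQ)
    (nobY1 P F hX hN hNO (eab_mono hB inf_le_left) (P.f3 h (inf_le_left.trans hBQ) inf_le_right))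

theorem nobT1 {a B : Subgroup G} (ha : IsPt Z a) (hB : IsElementaryAbelian 2 B) (hBQ : B ≤ QQ a) :
    Nob (MM Z a ⊔ NN Z a) B :=
  nob_of le_sup_left (MM_no P F hX hNO hB hBQ) (nob_of_le (comm_symm (sup_le (comm_symm inf_le_right)
    (comm_symm (inf_le_left.trans (hBQ.trans (P.QQ_le_cent ha)))))))

theorem nobT2 {a b B : Subgroup G} (h : Adj Z a b) (hB : IsElementaryAbelian 2 B) (hBQ : B ≤ QQ b) :
    Nob (MM Z a ⊔ NN Z a) B :=
  nob_of le_sup_right (hNO b a h.symm B hB hBQ)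
    (nobT1 P F hX hN hNO h.pt (eab_mono hB inf_le_left) (P.f3 h (inf_le_left.trans hBQ) inf_le_right))

/-- `AA Q` for `Q ≥ Y` : exact on `Y_a` -/
theorem exaY {a A Q : Subgroup G} (hYQ : YY Z X a ≤ Q) (hA : A ∈ AA Q) (h : Nob (YY Z X a) A) :
    Exa (YY Z X a) A :=
  (swp (YY_eab P F hX) hYQ hA h).1

/-- THEOREM C for 2-subgroups gives `TB` (critical distance at least `3`) -/
theorem tb_of (hG : ThmC2 Z X) : TB Z X := by
  intro a u hau B hB h3
  obtain ⟨-, h4⟩ := exa_peel (N := YY Z X a) (V := NN Z u) (B := B)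
    ((F.NX _ hau.pt').trans (X_le_YY hau))
    (exaY P F hX hN hNO (YY_le_QQ P F hX) hB (nobY1 P F hX hN hNO hB.1 hB.2.1))
    (hNO a u hau B hB.1 hB.2.1)
    (nobY1 P F hX hN hNO (eab_mono hB.1 inf_le_left) (inf_le_left.trans hB.2.1))
  refine hG u hau.pt' B (MinSimple.VModule.o2_isPGroup _ |>.to_le hB.2.1)
    (hB.2.1.trans ((P.QQ_le_cent hau.pt).trans (centralizer_le hau.le_NN))) fun x hx g hg => ?_
  have hgu : g ∈ HH u := P.QQ_le_HH hau.symm (hB.2.1 hg)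
  have h5 : x ∈ YY Z X a ⊓ centralizer ((B ⊓ centralizer (NN Z u : Set G) : Subgroup G) : Set G) :=
    ⟨X_le_YY hau hx, mem_centralizer_iff.2 fun b hb => (mem_centralizer_iff.1 (h3 hb) x hx).symm⟩
  obtain ⟨n, hn, y, hy, rfl⟩ := exists_mul_of_comm (V := NN Z u) (D := YY Z X a ⊓ centralizer (B : Set G))
    (((F.NX _ hau.pt').trans (X_le_YY hau)).trans ((YY_comm P F hX).trans (centralizer_le inf_le_left))) (h4 h5)
  have e1 : g * y = y * g := mem_centralizer_iff.1 hy.2 g hg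
  have e2 : n * y * g * (n * y)⁻¹ * g⁻¹ = n * (g * n⁻¹ * g⁻¹) := by
    calc n * y * g * (n * y)⁻¹ * g⁻¹ = n * (y * g) * y⁻¹ * n⁻¹ * g⁻¹ := by group
      _ = n * (g * y) * y⁻¹ * n⁻¹ * g⁻¹ := by rw [e1]
      _ = _ := by group
  rw [e2]
  exact mul_mem hn ((mem_normalizer_iff.1 (PP.HH_le_NN u hgu) _).1 (inv_mem hn))

/-- the element `g` of TEXT R5 (4) (a) -/
def Sep (Z : Fin 2 → Subgroup G) (X : Subgroup G → Subgroup G) (a u : Subgroup G) : Prop :=
  ∃ g ∈ QQ a, g ∈ centralizer (MM Z a : Set G) ∧ (∀ p : Subgroup G, Adj Z a p → p ≠ u →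
    g ∈ centralizer (X p : Set G)) ∧ g ∉ centralizer (X u : Set G)

omit [Finite G] hX hN hNO in
theorem Sep.conj {a u : Subgroup G} (hau : Adj Z a u) (h : Sep Z X a u) (k : G) :
    Sep Z X (MulAut.conj k • a) (MulAut.conj k • u) := by
  obtain ⟨g, hg, hgM, hgX, hgu⟩ := h
  refine ⟨k * g * k⁻¹, ?_, ?_, fun p hp hne => ?_, ?_⟩
  · rw [QQ_conj]
    exact ⟨g, hg, rfl⟩
  · rw [MM_conj, mem_cent_conj]
    exact hgM
  · have h1 : Adj Z a (MulAut.conj k⁻¹ • p) := by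
      have h2 := hp.conj k⁻¹
      rwa [inv_conj_conj] at h2
    have h2 : MulAut.conj k⁻¹ • p ≠ u := by
      rintro rfl
      exact hne (conj_inv_conj k p).symm
    have h3 := hgX _ h1 h2
    rw [← mem_cent_conj (g := k), ← F.conj k _ h1.pt', conj_inv_conj] at h3
    exact h3
  · rw [F.conj k _ hau.pt', mem_cent_conj]
    exact hgu

variable (hG : TB Z X) (hti : TIp Z) (hmv : Mvs Z)

include hG hmv in
/-- some `B ∈ AA Q_a` centralises `M_a` and moves `Y_a` -/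
theorem exists_B {a u₀ : Subgroup G} (h₀ : Adj Z a u₀) :
    ∃ B ∈ AA (QQ a), B ≤ centralizer (MM Z a : Set G) ∧ ¬ B ≤ centralizer (YY Z X a : Set G) := by
  obtain ⟨A, hA, hm⟩ := hmv a u₀ h₀
  obtain ⟨B, hB⟩ := exists_minA (M := MM Z a) hA fun h1 => hm (h1.trans (centralizer_le (NN_le_MM h₀)))
  obtain ⟨⟨u, hau⟩, hu⟩ := not_le_iSup hB.mov
  replace hu : ¬ B ≤ centralizer (NN Z u : Set G) := hu
  obtain ⟨h1, -, -, -⟩ := hB.cap (MM_eab P F hX) (MM_le_QQ P F hX) (NN_le_MM hau) hu (hNO a u hau B hB.mem.1 hB.mem.2.1)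
  obtain ⟨-, -, h2, -⟩ := exact' P (hC1 P F hX) hNO hau hB.mem
  refine ⟨_, h2, sup_le h1 ((NN_le_MM hau).trans (MM_comm P F hX)), fun hcon => ?_⟩
  -- `C_B(N_u)` centralises `X_u`
  exact hu (hG a u hau B hB.mem ((le_sup_left.trans hcon).trans (centralizer_le (X_le_YY hau))))

include hG hti hmv in
/-- **(a)** -/
theorem sep {a u : Subgroup G} (h : Adj Z a u) : Sep Z X a u := by
  obtain ⟨B, hB, hBM, hBY⟩ := exists_B P F hX hN hNO hG hmv h
  set Q' := QQ a ⊓ centralizer (MM Z a : Set G) with hQ'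
  have hBQ' : B ∈ AA Q' := ⟨hB.1, le_inf hB.2.1 hBM, fun D hD hDQ => hB.2.2 D hD (hDQ.trans inf_le_left)⟩
  obtain ⟨C, hCm⟩ := exists_minA hBQ' hBY
  obtain ⟨⟨u', hau'⟩, hu'⟩ := not_le_iSup hCm.mov
  replace hu' : ¬ C ≤ centralizer (X u' : Set G) := hu'
  have hCQ : C ≤ QQ a := hCm.mem.2.1.trans inf_le_left
  have hCM : C ≤ centralizer (MM Z a : Set G) := hCm.mem.2.1.trans inf_le_right
  have hCu : ∀ p, Adj Z a p → C ≤ QQ p := fun p hp => cent_MM_le P F hX hp hCQ hCM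
  have hYQ' : YY Z X a ≤ Q' :=
    le_inf (YY_le_QQ P F hX) ((YY_comm P F hX).trans (centralizer_le (MM_le_YY P F hX)))
  obtain ⟨-, -, -, h4⟩ := hCm.cap (YY_eab P F hX) hYQ' (X_le_YY hau') hu'
    (hN _ hau'.pt' _ hCm.mem.1 (hCu _ hau'))
  obtain ⟨g, hgC, hgu⟩ := SetLike.not_le_iff_exists.1 hu'
  have h5 : Sep Z X a u' := by
    refine ⟨g, hCQ hgC, hCM hgC, fun p hp hne' => ?_, hgu⟩
    refine mem_centralizer_iff.2 fun x hx => ?_
    have h6 : x * g * x⁻¹ * g⁻¹ ∈ u' := by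
      obtain ⟨v, hv, e⟩ := h4 x (X_le_YY hp hx) g hgC
      rw [e]
      exact F.com u' hau'.pt' v hv g (hCu _ hau' hgC)
    have h7 : x * g * x⁻¹ * g⁻¹ ∈ p := F.com p hp.pt' x hx g (hCu _ hp hgC)
    have h8 := ti_one hti hp.pt' hau'.pt' hne' h7 h6
    calc x * g = (x * g * x⁻¹ * g⁻¹) * (g * x) := by group
      _ = g * x := by rw [h8, one_mul]
  -- all neighbours are conjugate
  obtain ⟨k, hk1, hk2⟩ := P.con hau' h
  have h9 := h5.conj P F hau' k
  rwa [hk1, hk2] at h9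

include hG hti hmv in
/-- **TEXT R5 (4)**: least distance at least three is impossible. -/
theorem false_of_three (hfx : FixN Z) : False := by
  have h0 : IsPt Z (Z 0) := isPt Z 0
  have hab : Adj Z (Z 0) (Z 1) := adj Z 0
  obtain ⟨A, hA, hmov⟩ := hmv _ _ hab.symm
  set a := Z 0 with ha
  set b := Z 1 with hb
  obtain ⟨x, hxA, hxN⟩ := SetLike.not_le_iff_exists.1 hmov
  obtain ⟨u, hau, hxu⟩ : ∃ u : Subgroup G, Adj Z a u ∧ MulAut.conj x • u ≠ u := by
    by_contra hcon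
    push Not at hcon
    exact hxN (hfx a b hab x (hA.2.1 hxA) hcon)
  have hAab := (eab_iff.1 hA.1).1
  have hAa : A ≤ HH a := hA.2.1.trans (P.QQ_le_HH hab)
  have hxa : MulAut.conj x • a = a := Cfsg.Agent.Omega.NOThreeL.Pair.conj_eq_of_mem (hAa hxA)
  set u' := MulAut.conj x • u with hu'
  have hau' : Adj Z a u' := by
    have h1 := hau.conj x
    rwa [hxa] at h1
  have hupt := hau.pt'
  have hne' : u' ≠ u := hxu
  obtain ⟨g, hgQ, hgM, hgX, hgu⟩ := sep P F hX hN hNO hG hti hmv hau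
  set T := MM Z a ⊔ NN Z a with hT
  have hTY : T ≤ YY Z X a := sup_le (MM_le_YY P F hX) (NN_le_YY P F hX)
  set AM := A ⊓ centralizer (T : Set G) with hAM
  have hAMQ : AM ≤ QQ a := P.f3 hab (inf_le_left.trans hA.2.1) (inf_le_right.trans (centralizer_le (le_sup_right : NN Z a ≤ T)))
  have hAMe : IsElementaryAbelian 2 AM := eab_mono hA.1 inf_le_left
  have hAMM : AM ≤ centralizer (MM Z a : Set G) := inf_le_right.trans (centralizer_le (le_sup_left : MM Z a ≤ T))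
  have hAMu : ∀ p, Adj Z a p → AM ≤ QQ p := fun p hp => cent_MM_le P F hX hp hAMQ hAMM
  have hE := exaY P F hX hN hNO (YY_le_QQ' P F hX hab) hA (nobY2 P F hX hN hNO hab hA.1 hA.2.1)
  obtain ⟨h1, h2⟩ := exa_peel hTY hE (nobT2 P F hX hN hNO hab hA.1 hA.2.1) (nobY1 P F hX hN hNO hAMe hAMQ)
  obtain ⟨-, h3⟩ := exa_peel (X_le_YY hau) h1 (hN _ hupt _ hAMe (hAMu _ hau))
    (nobY1 P F hX hN hNO (eab_mono hAMe inf_le_left) (inf_le_left.trans hAMQ))
  have hYc := YY_comm P F hX (a := a)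
  have hXu' : X u' = MulAut.conj x • X u := F.conj x u hupt
  -- `A_M` centralises `X_u'`
  have h4 : AM ≤ centralizer (X u' : Set G) := by
    intro y hy
    refine mem_centralizer_iff.2 fun s hs => ?_
    have h5 : s ∈ YY Z X a ⊓ centralizer ((AM ⊓ centralizer (X u : Set G) : Subgroup G) : Set G) := by
      refine ⟨X_le_YY hau' hs, mem_centralizer_iff.2 fun w hw => ?_⟩
      rw [hXu'] at hs
      obtain ⟨t, ht, rfl⟩ := hs
      have e1 : x * w = w * x := mem_centralizer_iff.1 (hAab hw.1.1) x hxA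
      have e2 : t * w = w * t := mem_centralizer_iff.1 hw.2 t ht
      change w * (x * t * x⁻¹) = x * t * x⁻¹ * w
      have e3 : x⁻¹ * w = w * x⁻¹ := mem_centralizer_iff.1 (hAab hw.1.1) x⁻¹ (inv_mem hxA)
      calc w * (x * t * x⁻¹) = (w * x) * t * x⁻¹ := by group
        _ = x * (w * t) * x⁻¹ := by rw [← e1]; group
        _ = x * t * (w * x⁻¹) := by rw [← e2]; group
        _ = x * t * x⁻¹ * w := by rw [← e3]; group
    obtain ⟨v, hv, w, hw, rfl⟩ := exists_mul_of_comm (V := X u)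
      (D := YY Z X a ⊓ centralizer (AM : Set G)) ((X_le_YY hau).trans (hYc.trans (centralizer_le inf_le_left))) (h3 h5)
    have e1 : y * w = w * y := mem_centralizer_iff.1 hw.2 y hy
    have e2 : v * w * y * (v * w)⁻¹ * y⁻¹ = v * y * v⁻¹ * y⁻¹ := by
      calc v * w * y * (v * w)⁻¹ * y⁻¹ = v * (w * y) * w⁻¹ * v⁻¹ * y⁻¹ := by group
        _ = v * (y * w) * w⁻¹ * v⁻¹ * y⁻¹ := by rw [e1]
        _ = _ := by group
    have h6 : v * w * y * (v * w)⁻¹ * y⁻¹ ∈ u := by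
      rw [e2]
      exact F.com u hupt v hv y (hAMu _ hau hy)
    have h7 : v * w * y * (v * w)⁻¹ * y⁻¹ ∈ u' := F.com u' hau'.pt' _ hs y (hAMu _ hau' hy)
    have h8 := ti_one hti hau'.pt' hupt hne' h7 h6
    calc v * w * y = (v * w * y * (v * w)⁻¹ * y⁻¹) * (y * (v * w)) := by group
      _ = y * (v * w) := by rw [h8, one_mul]
  -- `A_M` centralises `X_u`
  have h5 : AM ≤ centralizer (X u : Set G) := by
    intro y hy
    have e1 : x * y * x⁻¹ = y := by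
      have : x * y = y * x := mem_centralizer_iff.1 (hAab hy.1) x hxA
      rw [this]; group
    have h6 := h4 hy
    rw [hXu', ← e1, mem_cent_conj] at h6
    exact h6
  -- `X_u ≤ T X_u'`
  apply hgu
  refine mem_centralizer_iff.2 fun s hs => ?_
  have hgT : g ∈ centralizer (T : Set G) := by
    have h6 : T ≤ centralizer ({g} : Set G) := by
      refine sup_le (fun t ht => ?_) fun t ht => ?_
      · rw [mem_centralizer_singleton_iff]
        exact mem_centralizer_iff.1 hgM t ht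
      · rw [mem_centralizer_singleton_iff]
        exact mem_centralizer_iff.1 (P.QQ_le_cent h0 hgQ) t ht
    exact mem_centralizer_iff.2 fun t ht => mem_centralizer_singleton_iff.1 (h6 ht)
  have hxT : ∀ t ∈ T, x * t * x⁻¹ ∈ T := by
    intro t ht
    have h6 : MulAut.conj x • T = T := by
      rw [hT, Subgroup.smul_sup, ← MM_conj, ← NN_conj, hxa]
    rw [← h6]
    exact ⟨t, ht, rfl⟩
  obtain ⟨t, ht, c, hc, rfl⟩ := exists_mul_of_comm (V := T) (D := YY Z X a ⊓ centralizer (A : Set G))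
    (hTY.trans (hYc.trans (centralizer_le inf_le_left)))
    (h2 ⟨X_le_YY hau hs, mem_centralizer_iff.2 fun y hy => (mem_centralizer_iff.1 (h5 hy) s hs).symm⟩)
  have e1 : x * c = c * x := mem_centralizer_iff.1 hc.2 x hxA
  have e2 : x * (t * c) * x⁻¹ = x * t * x⁻¹ * c := by
    calc x * (t * c) * x⁻¹ = x * t * x⁻¹ * (x * c) * x⁻¹ := by group
      _ = x * t * x⁻¹ * (c * x) * x⁻¹ := by rw [e1]
      _ = x * t * x⁻¹ * c := by group
  have k1 : t ∈ centralizer ({g} : Set G) := by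
    rw [mem_centralizer_singleton_iff]
    exact mem_centralizer_iff.1 hgT t ht
  have k2 : x * t * x⁻¹ ∈ centralizer ({g} : Set G) := by
    rw [mem_centralizer_singleton_iff]
    exact mem_centralizer_iff.1 hgT _ (hxT t ht)
  have k3 : x * t * x⁻¹ * c ∈ centralizer ({g} : Set G) := by
    rw [mem_centralizer_singleton_iff, ← e2]
    refine mem_centralizer_iff.1 (hgX u' hau' hne') _ ?_
    rw [hXu']
    exact ⟨_, hs, rfl⟩
  have k4 : c ∈ centralizer ({g} : Set G) := by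
    have := mul_mem (inv_mem k2) k3
    rwa [inv_mul_cancel_left] at this
  exact mem_centralizer_singleton_iff.1 (mul_mem k1 k4)

end main

/-- **TEXT R5 (4) / TEXT W2 (8), for `X_a = W_a N_a`, two types**: some pair `X_a`, `X_b` at distance `1` or `2` does not
commute. -/
theorem exists_least {Z U : Fin 2 → Subgroup G} (P : PP Z U) (hab : ∀ i, IsElementaryAbelian 2 (XW Z U (Z i)))
    (hle : ∀ i, XW Z U (Z i) ≤ QQ (Z i)) (hN : NobX Z (XW Z U)) (hNO : NoP Z) (hG : ThmC2 Z (XW Z U)) (hti : TIp Z)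
    (hfx : FixN Z) :
    ∃ d a b, d ≤ 1 ∧ Pth Z (d + 1) a b ∧ ¬ XW Z U a ≤ centralizer (XW Z U b : Set G) ∧
      ∀ m ≤ d, ∀ a b, Pth Z m a b → XW Z U a ≤ centralizer (XW Z U b : Set G) := by
  classical
  have F := xf P hab hle
  have hex : ∃ n ≤ 2, ∃ a b, Pth Z n a b ∧ ¬ XW Z U a ≤ centralizer (XW Z U b : Set G) := by
    by_contra hcon
    push Not at hcon
    have hB := tb_of P F hcon hN hNO hG
    exact false_of_three P F hcon hN hNO hB hti (moves P (hC1 P F hcon) hNO hB) hfx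
  obtain ⟨n, ⟨hn2, a, b, hab', hne⟩, hmin⟩ : ∃ n, (n ≤ 2 ∧ ∃ a b, Pth Z n a b ∧
      ¬ XW Z U a ≤ centralizer (XW Z U b : Set G)) ∧
      ∀ m < n, ¬ (m ≤ 2 ∧ ∃ a b, Pth Z m a b ∧ ¬ XW Z U a ≤ centralizer (XW Z U b : Set G)) :=
    ⟨Nat.find hex, Nat.find_spec hex, fun m hm => Nat.find_min hex hm⟩
  have hn : n ≠ 0 := by
    rintro rfl
    cases hab' with
    | zero h => exact hne (eab_iff.1 (F.eab _ h)).1
  obtain ⟨d, rfl⟩ := Nat.exists_eq_succ_of_ne_zero hn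
  refine ⟨d, a, b, by omega, hab', hne, fun m hm a b h => ?_⟩
  by_contra h1
  exact hmin m (by omega) ⟨by omega, a, b, h, h1⟩

end Cfsg.Agent.Omega.OM.PT
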