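import Cfsg.Agent.Omega.OM.PT.Far

/-!
# Two types, no swap: exactness of a critical pair, `X`-distances 1 and 2 are impossible (helper918, TEXT W2 #24006 (8);
port of `OM/PG/PeelQ` (lines), `OM/PG/ExactQ`)

* `Tr`, `Pts`, `fixN_of` : `FixN` from the lines; `NobU`, `nobU_of`, `nobX_of`;
* `Sur`, `sur_of`; `CX`, `crQ`, `TA`, `ta_of`, `redX`, `redQ`;
* `Fus2`, `hdis_of`, `false_of_twoQ`; **`false_of_pc`** : TEXT W2 (8).
-/

set_option autoImplicit false
set_option linter.unusedSectionVars false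

namespace Cfsg.Agent.Omega.OM.PT

open Subgroup Cfsg Cfsg.Agent.ZN Cfsg.Agent.Omega.MinPar
open Cfsg.Agent.Omega.OM.PG (HH QQ HH_conj QQ_conj conj_inv_conj inv_conj_conj card_mul_relIndex')
open Cfsg.Agent.Omega.NO3S.EThree.ExactA (eab_iff eab_sup eab_mono swp no_sup)
open Cfsg.Agent.Omega.OM.PG.Peel (Nob nob_of_le nob_of exists_mul_of_comm mem_cent_conj not_le_iSup)
open Cfsg.Agent.Omega.OM.PG.PeelQ (exists_fx fix_line nob_conj)
open Cfsg.Agent.Omega.OM.PG.ExactQ (CrQ)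
open Cfsg.Agent.Omega.NoFF.Basic (conj_conj mem_conj conj_le_iff conj_le_centralizer comm_symm comm_mono)
open scoped commutatorElement Pointwise

universe u

variable {G : Type u} [Group G]

/-! ### `FixN`, `NobX` from the lines -/

section lines

variable {Z U : Fin 2 → Subgroup G}

/-- the points of `U i` of type `i` are conjugate to `Z i` under elements fixing `Z (i + 1)` -/
def Tr (Z U : Fin 2 → Subgroup G) : Prop :=
  ∀ (i : Fin 2) (k : G), MulAut.conj k • Z i ≤ U i →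
    ∃ l : G, MulAut.conj l • Z i = MulAut.conj k • Z i ∧ MulAut.conj l • Z (i + 1) = Z (i + 1)

/-- every element `≠ 1` of `U i` lies in a point of type `i` of `U i` -/
def Pts (Z U : Fin 2 → Subgroup G) : Prop :=
  ∀ i, ∀ x ∈ U i, x ≠ 1 → ∃ k : G, MulAut.conj k • Z i ≤ U i ∧ x ∈ MulAut.conj k • Z i

/-- the points of a line of `N_a` are neighbours of `a` -/
theorem adj_of_line (hT : Tr Z U) {i : Fin 2} {k m : G}
    (h : MulAut.conj m • Z (i + 1) ≤ MulAut.conj k • U (i + 1)) :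
    Adj Z (MulAut.conj k • Z i) (MulAut.conj m • Z (i + 1)) := by
  have h4 : MulAut.conj (k⁻¹ * m) • Z (i + 1) ≤ U (i + 1) := by
    have h5 := conj_le_iff (g := k⁻¹) |>.2 h
    rwa [conj_conj, inv_conj_conj] at h5
  obtain ⟨l, hl0, hl1⟩ := hT _ _ h4
  rw [add2] at hl1
  refine ⟨i, k * l, ?_, ?_⟩
  · rw [← conj_conj k l, hl1]
  · rw [← conj_conj k l, hl0, conj_conj, mul_inv_cancel_left]

/-- **`FixN`.** -/
theorem fixN_of [Finite G] (P : PP Z U) (hT : Tr Z U) (hti : TIp Z) (hpts : Pts Z U)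
    (hU : ∀ i, IsElementaryAbelian 2 (U i)) (hne : ∀ i, ¬ U i ≤ Z i) : FixN Z := by
  intro a b hab x hx hfx
  have hx2 : IsPGroup 2 (zpowers x) := (MinSimple.VModule.o2_isPGroup _).to_le (zpowers_le.2 hx)
  -- `x` centralises every neighbour
  have key : ∀ u, Adj Z a u → x ∈ centralizer (u : Set G) := by
    rintro u ⟨i, k, hka, rfl⟩
    have hlE' := eab_iff.1 (PG.Peel.eab_conj (hU (i + 1)) k)
    have hPadj : ∀ w : Subgroup G, ((∃ m : G, w = MulAut.conj m • Z (i + 1)) ∧ w ≤ MulAut.conj k • U (i + 1)) →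
        Adj Z a w := by
      rintro _ ⟨⟨m, rfl⟩, hm⟩
      rw [hka]
      exact adj_of_line hT hm
    have hu : (∃ m : G, (MulAut.conj k • Z (i + 1) : Subgroup G) = MulAut.conj m • Z (i + 1)) ∧
        (MulAut.conj k • Z (i + 1) : Subgroup G) ≤ MulAut.conj k • U (i + 1) :=
      ⟨⟨k, rfl⟩, conj_le_iff.2 (P.ZU _)⟩
    have hcov : ∀ y ∈ (MulAut.conj k • U (i + 1) : Subgroup G), y ≠ 1 → ∃ w : Subgroup G,
        ((∃ m : G, w = MulAut.conj m • Z (i + 1)) ∧ w ≤ MulAut.conj k • U (i + 1)) ∧ y ∈ w := by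
      rintro y hy hy1
      obtain ⟨y0, hy0, rfl⟩ := hy
      obtain ⟨m, hm, hym⟩ := hpts (i + 1) y0 hy0 (fun e => hy1 (by rw [e]; exact map_one _))
      exact ⟨MulAut.conj k • (MulAut.conj m • Z (i + 1)), ⟨⟨k * m, conj_conj _ _ _⟩, conj_le_iff.2 hm⟩,
        ⟨y0, hym, rfl⟩⟩
    -- another point
    obtain ⟨y, hy, hyu⟩ : ∃ y ∈ (MulAut.conj k • U (i + 1) : Subgroup G),
        y ∉ (MulAut.conj k • Z (i + 1) : Subgroup G) := by
      by_contra hcon
      push Not at hcon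
      apply hne (i + 1)
      have h4 : (MulAut.conj k • U (i + 1) : Subgroup G) ≤ MulAut.conj k • Z (i + 1) := hcon
      exact conj_le_iff.1 h4
    obtain ⟨u', hu', hyu'⟩ := hcov y hy (fun e => hyu (e ▸ one_mem _))
    have hne' : u' ≠ MulAut.conj k • Z (i + 1) := fun e => hyu (e ▸ hyu')
    refine fix_line (l := MulAut.conj k • U (i + 1))
      (Pt := fun w => (∃ m : G, w = MulAut.conj m • Z (i + 1)) ∧ w ≤ MulAut.conj k • U (i + 1))
      (fun y hy z hz => (mem_centralizer_iff.1 (hlE'.1 hz) y hy)) hlE'.2 (fun w hw => hw.2) ?_ ?_ hcov hx2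
      (fun w hw => ChoiceBase.mem_normalizer_iff_cj.2 (hfx w (hPadj w hw))) hu hu' hne'
    · rintro _ ⟨⟨m, rfl⟩, -⟩
      exact P.pt_ne ⟨_, m, rfl⟩
    · rintro _ _ ⟨⟨m, rfl⟩, -⟩ ⟨⟨m', rfl⟩, -⟩ hne
      exact hti _ _ ⟨_, m, rfl⟩ ⟨_, m', rfl⟩ hne
  have h5 : NN Z a ≤ centralizer ({x} : Set G) := sSup_le fun u hu y hy =>
    mem_centralizer_singleton_iff.2 (mem_centralizer_iff.1 (key u hu) y hy)
  exact mem_centralizer_iff.2 fun y hy => mem_centralizer_singleton_iff.1 (h5 hy)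

/-- `(NO)` for `Q(Z i)` on `U i` -/
def NobU (Z U : Fin 2 → Subgroup G) : Prop :=
  ∀ i, ∀ B : Subgroup G, IsElementaryAbelian 2 B → B ≤ QQ (Z i) → Nob (U i) B

/-- the root group structure on `U i` -/
def RtU (Z U : Fin 2 → Subgroup G) : Prop :=
  ∀ i, (∀ y ∈ QQ (Z i), ∀ v ∈ U i, v ∉ Z i → y * v = v * y → y ∈ centralizer (U i : Set G)) ∧
    Nat.card (U i) = Nat.card (Z i) * Nat.card (Z i) ∧ ¬ U i ≤ Z i

variable [Finite G]

/-- **`NobX`** -/
theorem nobX_of (P : PP Z U) (hN : NobU Z U) : NobX Z (XW Z U) := by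
  intro a ha B hB hBQ
  refine no_sup (ι := Option {l : Subgroup G // LnOn Z U a l})
    (N := fun o => o.elim (NN Z a) fun l => (l : Subgroup G)) (M := XW Z U a) (Q := QQ a) ?_ ?_ ?_ B hB hBQ
  · rintro (_ | l)
    · exact le_sup_left
    · exact ln_le_XW l.2
  · refine sup_le ?_ (iSup_le fun l => ?_)
    · exact le_iSup (fun o : Option {l : Subgroup G // LnOn Z U a l} =>
        o.elim (NN Z a) fun l => (l : Subgroup G)) none
    · exact le_iSup (fun o : Option {l : Subgroup G // LnOn Z U a l} =>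
        o.elim (NN Z a) fun l => (l : Subgroup G)) (some l)
  · rintro (_ | ⟨l, i, k, hk, rfl⟩) B hB hBQ
    · exact nob_of_le (hBQ.trans (P.QQ_le_cent ha))
    · change Nob (MulAut.conj k • U i) B
      have h1 : B = MulAut.conj k • (MulAut.conj k⁻¹ • B) := (conj_inv_conj k B).symm
      rw [h1]
      refine nob_conj (hN i _ (PG.Peel.eab_conj hB _) ?_) k
      rw [hk, QQ_conj] at hBQ
      have h2 := conj_le_iff (g := k⁻¹) |>.2 hBQ
      rwa [inv_conj_conj] at h2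

/-- `NobU` from the root group structure on `U i`. -/
theorem nobU_of (P : PP Z U) (hR : RtU Z U) : NobU Z U := by
  intro i B hB hBQ
  obtain ⟨hfree, hcard, hUZ⟩ := hR i
  by_cases hc : B ≤ centralizer (U i : Set G)
  · exact nob_of_le hc
  obtain ⟨b, hb, hbU⟩ := SetLike.not_le_iff_exists.1 hc
  unfold Nob
  have hZpos : 0 < Nat.card (Z i) := Nat.card_pos
  -- `C_U(B) ≤ Z`
  have h1 : Nat.card (Z i) ≤ (centralizer (B : Set G)).relIndex (U i) := by
    have h2 : U i ⊓ centralizer (B : Set G) ≤ Z i := by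
      rintro v ⟨hv, hvB⟩
      by_contra hvZ
      exact hbU (hfree b (hBQ hb) v hv hvZ (mem_centralizer_iff.1 hvB b hb))
    have h3 : Nat.card (U i ⊓ centralizer (B : Set G) : Subgroup G) * (centralizer (B : Set G)).relIndex (U i) =
        Nat.card (U i) := by
      rw [← inf_relIndex_left]
      exact Cfsg.Agent.Omega.NO3S.ML.card_mul_relIndex inf_le_left
    have h4 : Nat.card (U i ⊓ centralizer (B : Set G) : Subgroup G) ≤ Nat.card (Z i) := card_le_of_le h2
    have h5 : Nat.card (Z i) * Nat.card (Z i) ≤ Nat.card (Z i) * (centralizer (B : Set G)).relIndex (U i) := by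
      rw [← hcard, ← h3]
      exact Nat.mul_le_mul_right _ h4
    exact Nat.le_of_mul_le_mul_left h5 hZpos
  refine le_trans ?_ h1
  -- the commutator with a fixed vector
  obtain ⟨v, hv, hvZ⟩ := SetLike.not_le_iff_exists.1 hUZ
  have hcom : ∀ y : B, v * (y : G) * v⁻¹ * (y : G)⁻¹ ∈ Z i := fun y => P.UQ i v hv y (hBQ y.2)
  set K := (centralizer (U i : Set G)).subgroupOf B with hK
  let f : B ⧸ K → Z i := fun q => ⟨_, hcom q.out⟩
  have hf : Function.Injective f := by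
    intro p q hpq
    have e : v * (p.out : G) * v⁻¹ * (p.out : G)⁻¹ = v * (q.out : G) * v⁻¹ * (q.out : G)⁻¹ := congrArg Subtype.val hpq
    have e1 : (p.out : G)⁻¹ * (q.out : G) * v = v * ((p.out : G)⁻¹ * (q.out : G)) := by
      have e0 : (p.out : G) * v * (p.out : G)⁻¹ = (q.out : G) * v * (q.out : G)⁻¹ := by
        calc (p.out : G) * v * (p.out : G)⁻¹ = (v * (p.out : G) * v⁻¹ * (p.out : G)⁻¹)⁻¹ * v := by group
          _ = (v * (q.out : G) * v⁻¹ * (q.out : G)⁻¹)⁻¹ * v := by rw [e]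
          _ = _ := by group
      calc (p.out : G)⁻¹ * (q.out : G) * v = (p.out : G)⁻¹ * ((q.out : G) * v * (q.out : G)⁻¹) * (q.out : G) := by group
        _ = (p.out : G)⁻¹ * ((p.out : G) * v * (p.out : G)⁻¹) * (q.out : G) := by rw [e0]
        _ = _ := by group
    rw [← QuotientGroup.out_eq' p, ← QuotientGroup.out_eq' q]
    refine QuotientGroup.eq.2 ?_
    refine mem_subgroupOf.2 ?_
    exact hfree _ (mul_mem (inv_mem (hBQ p.out.2)) (hBQ q.out.2)) v hv hvZ e1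
  calc (centralizer (U i : Set G)).relIndex B = Nat.card (B ⧸ K) := rfl
    _ ≤ Nat.card (Z i) := Nat.card_le_card_of_injective f hf

/-- `[U i, y] = Z i` for `y ∈ Q(Z i)` which moves `U i` -/
def Sur (Z U : Fin 2 → Subgroup G) : Prop :=
  ∀ i, ∀ y ∈ QQ (Z i), y ∉ centralizer (U i : Set G) → ∀ z ∈ Z i, ∃ x ∈ U i, x * y * x⁻¹ * y⁻¹ = z

omit [Finite G] in
theorem Sur.ln {a l : Subgroup G} (hS : Sur Z U) (h : LnOn Z U a l) {y : G} (hy : y ∈ QQ a)
    (hyl : y ∉ centralizer (l : Set G)) {z : G} (hz : z ∈ a) : ∃ x ∈ l, x * y * x⁻¹ * y⁻¹ = z := by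
  obtain ⟨i, k, rfl, rfl⟩ := h
  rw [QQ_conj] at hy
  obtain ⟨y0, hy0, rfl⟩ := hy
  obtain ⟨z0, hz0, rfl⟩ := hz
  have h1 : y0 ∉ centralizer (U i : Set G) := fun h1 => hyl ((mem_cent_conj (g := k)).2 h1)
  obtain ⟨x0, hx0, e⟩ := hS i y0 hy0 h1 z0 hz0
  refine ⟨k * x0 * k⁻¹, ⟨x0, hx0, rfl⟩, ?_⟩
  change k * x0 * k⁻¹ * (k * y0 * k⁻¹) * (k * x0 * k⁻¹)⁻¹ * (k * y0 * k⁻¹)⁻¹ = k * z0 * k⁻¹
  rw [← e]
  group

/-- `Sur` from the root group structure on `U i` -/
theorem sur_of (P : PP Z U) (hR : RtU Z U) : Sur Z U := by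
  intro i y hy hyU
  obtain ⟨hfree, hcard, -⟩ := hR i
  have hcom : ∀ x : U i, (x : G) * y * (x : G)⁻¹ * y⁻¹ ∈ Z i := fun x => P.UQ i x x.2 y hy
  set K := (centralizer ({y} : Set G)).subgroupOf (U i) with hK
  have hKZ : U i ⊓ centralizer ({y} : Set G) ≤ Z i := by
    rintro v ⟨hv, hvy⟩
    by_contra hvZ
    exact hyU (hfree y hy v hv hvZ (mem_centralizer_singleton_iff.1 hvy).symm)
  let f : U i ⧸ K → Z i := fun q => ⟨_, hcom q.out⟩
  have hf : Function.Injective f := by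
    intro p q hpq
    have e : (p.out : G) * y * (p.out : G)⁻¹ * y⁻¹ = (q.out : G) * y * (q.out : G)⁻¹ * y⁻¹ :=
      congrArg Subtype.val hpq
    have e0 : (p.out : G) * y * (p.out : G)⁻¹ = (q.out : G) * y * (q.out : G)⁻¹ := mul_right_cancel e
    have e1 : (p.out : G)⁻¹ * (q.out : G) * y = y * ((p.out : G)⁻¹ * (q.out : G)) := by
      calc (p.out : G)⁻¹ * (q.out : G) * y =
          (p.out : G)⁻¹ * ((q.out : G) * y * (q.out : G)⁻¹) * (q.out : G) := by group
        _ = (p.out : G)⁻¹ * ((p.out : G) * y * (p.out : G)⁻¹) * (q.out : G) := by rw [e0]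
        _ = _ := by group
    rw [← QuotientGroup.out_eq' p, ← QuotientGroup.out_eq' q]
    refine QuotientGroup.eq.2 ?_
    refine mem_subgroupOf.2 ?_
    exact mem_centralizer_singleton_iff.2 e1
  have h3 : Nat.card (U i ⊓ centralizer ({y} : Set G) : Subgroup G) * Nat.card (U i ⧸ K) =
      Nat.card (U i) := by
    have h4 := card_mul_relIndex' (H := U i ⊓ centralizer ({y} : Set G)) (K := U i) inf_le_left
    rw [inf_relIndex_left] at h4
    exact h4
  have h4 : Nat.card (U i ⊓ centralizer ({y} : Set G) : Subgroup G) ≤ Nat.card (Z i) := card_le_of_le hKZ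
  have h5 : Nat.card (Z i) ≤ Nat.card (U i ⧸ K) := by
    have h6 : Nat.card (Z i) * Nat.card (Z i) ≤ Nat.card (Z i) * Nat.card (U i ⧸ K) := by
      rw [← hcard, ← h3]
      exact Nat.mul_le_mul_right _ h4
    exact Nat.le_of_mul_le_mul_left h6 Nat.card_pos
  intro z hz
  obtain ⟨q, hq⟩ := (hf.bijective_of_nat_card_le h5).2 ⟨z, hz⟩
  exact ⟨q.out, q.out.2, congrArg Subtype.val hq⟩

end lines

/-! ### Critical pairs -/

/-- A critical pair `(a, b)`, at least `X`-distance `d + 1`. -/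
structure CX (Z : Fin 2 → Subgroup G) (X : Subgroup G → Subgroup G) (d : ℕ) (a b : Subgroup G) : Prop where
  pth : Pth Z (d + 1) a b
  ne : ¬ X a ≤ centralizer (X b : Set G)
  com : ∀ m ≤ d, ∀ a b : Subgroup G, Pth Z m a b → X a ≤ centralizer (X b : Set G)

namespace CX

variable {Z U : Fin 2 → Subgroup G} {X : Subgroup G → Subgroup G} {d : ℕ} {a b : Subgroup G}

theorem symm (h : CX Z X d a b) : CX Z X d b a :=
  ⟨PP.pth_symm h.pth, fun h1 => h.ne (comm_symm h1), h.com⟩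

variable [Finite G]

/-- `X_x ≤ Q_c` at distance less than the critical distance -/
theorem X_le_QQ (P : PP Z U) (F : XF Z X) (h : CX Z X d a b) :
    ∀ m ≤ d, ∀ x c : Subgroup G, Pth Z m x c → X x ≤ QQ c := by
  intro m
  induction m with
  | zero =>
    intro _ x c hx
    cases hx with
    | zero h0 => exact F.XQ _ h0
  | succ m ih =>
    intro hm x c hx
    have h1 := h.com _ hm x c hx
    have hcp := PP.pth_pt' hx
    cases hx with
    | succ h2 h3 =>
      exact P.f3 h3.symm (ih (by omega) _ _ h2) (h1.trans (centralizer_le (F.NX _ hcp)))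

omit [Finite G] in
theorem nor_X (F : XF Z X) {a : Subgroup G} (ha : IsPt Z a) : HH a ≤ normalizer (X a : Set G) := by
  intro g hg
  have h0 : MulAut.conj g • a = a := Cfsg.Agent.Omega.NOThreeL.Pair.conj_eq_of_mem hg
  refine ChoiceBase.mem_normalizer_iff_cj.2 ?_
  change MulAut.conj g • X a = X a
  rw [← F.conj g a ha, h0]

/-- The ends of the path. -/
theorem ends (P : PP Z U) (F : XF Z X) (h : CX Z X d a b) :
    ∃ a' b', Adj Z a' a ∧ Adj Z b' b ∧ X a ≤ QQ b' ∧ X b ≤ QQ a' := by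
  have hp := h.pth
  have hp' := PP.pth_symm h.pth
  cases hp with
  | @succ _ _ b' _ h1 h2 =>
    cases hp' with
    | @succ _ _ a' _ h4 h5 =>
      exact ⟨a', b', h5, h2, h.X_le_QQ P F _ le_rfl _ _ h1, h.X_le_QQ P F _ le_rfl _ _ h4⟩

end CX

section frame

variable {Z U : Fin 2 → Subgroup G} {X : Subgroup G → Subgroup G} {d : ℕ} {a b : Subgroup G}

variable [Finite G]

/-- A critical pair is a `CrQ`. -/
theorem crQ (P : PP Z U) (F : XF Z X) (hN : NobX Z X) (hti : TIp Z) (hNO : NoP Z) (h : CX Z X d a b) :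
    CrQ a b (NN Z a) (NN Z b) (X a) (X b) := by
  obtain ⟨a', b', ha', hb', hXa, hXb⟩ := h.ends P F
  have hap : IsPt Z a := PP.pth_pt h.pth
  have hbp : IsPt Z b := PP.pth_pt' h.pth
  have card : ∀ {N B : Subgroup G}, (centralizer (N : Set G)).relIndex B ≤ (centralizer (B : Set G)).relIndex N →
      Nat.card B * Nat.card (N ⊓ centralizer (B : Set G) : Subgroup G) ≤
        Nat.card (B ⊓ centralizer (N : Set G) : Subgroup G) * Nat.card N := by
    intro N B h1
    have h2 : Nat.card (B ⊓ centralizer (N : Set G) : Subgroup G) * (centralizer (N : Set G)).relIndex B =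
        Nat.card B := by
      rw [← Subgroup.inf_relIndex_left]
      exact card_mul_relIndex' inf_le_left
    have h3 : Nat.card (N ⊓ centralizer (B : Set G) : Subgroup G) * (centralizer (B : Set G)).relIndex N =
        Nat.card N := by
      rw [← Subgroup.inf_relIndex_left]
      exact card_mul_relIndex' inf_le_left
    calc Nat.card B * Nat.card (N ⊓ centralizer (B : Set G) : Subgroup G)
        = (Nat.card (B ⊓ centralizer (N : Set G) : Subgroup G) *
          Nat.card (N ⊓ centralizer (B : Set G) : Subgroup G)) * (centralizer (N : Set G)).relIndex B := by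
          rw [← h2]; ring
      _ ≤ (Nat.card (B ⊓ centralizer (N : Set G) : Subgroup G) *
          Nat.card (N ⊓ centralizer (B : Set G) : Subgroup G)) * (centralizer (B : Set G)).relIndex N :=
          Nat.mul_le_mul_left _ h1
      _ = Nat.card (B ⊓ centralizer (N : Set G) : Subgroup G) *
          (Nat.card (N ⊓ centralizer (B : Set G) : Subgroup G) * (centralizer (B : Set G)).relIndex N) := by ring
      _ = _ := by rw [h3]
  have hQ : ∀ {a b a' : Subgroup G}, Adj Z a' a → X b ≤ QQ a' → X b ⊓ centralizer (NN Z a : Set G) ≤ QQ a := by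
    intro a b a' ha' hXb
    exact P.f3 ha'.symm (inf_le_left.trans hXb) inf_le_right
  have hcc : ∀ {a b a' : Subgroup G}, IsPt Z a → Adj Z a' a → X b ≤ QQ a' →
      ⁅X a, X b ⊓ centralizer (NN Z a : Set G)⁆ ≤ a := by
    intro a b a' ha ha' hXb
    rw [commutator_le]
    intro x hx y hy
    exact F.com a ha x hx y (hQ ha' hXb hy)
  exact
  { NX := F.NX a hap
    MY := F.NX b hbp
    Xc := fun x hx y hy => (mem_centralizer_iff.1 ((eab_iff.1 (F.eab a hap)).1 hy) x hx)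
    Yc := fun x hx y hy => (mem_centralizer_iff.1 ((eab_iff.1 (F.eab b hbp)).1 hy) x hx)
    XnY := (hXa.trans (P.QQ_le_HH hb'.symm)).trans (CX.nor_X F hbp)
    YnX := (hXb.trans (P.QQ_le_HH ha'.symm)).trans (CX.nor_X F hap)
    XnM := (hXa.trans (P.QQ_le_HH hb'.symm)).trans (PP.HH_le_NN b)
    YnN := (hXb.trans (P.QQ_le_HH ha'.symm)).trans (PP.HH_le_NN a)
    ca := hcc hap ha' hXb
    cb := hcc hbp hb' hXa
    pX := hN a hap _ (eab_mono (F.eab b hbp) inf_le_left) (hQ ha' hXb)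
    pY := hN b hbp _ (eab_mono (F.eab a hap) inf_le_left) (hQ hb' hXa)
    ab := by
      refine hti a b hap hbp ?_
      rintro rfl
      exact h.ne (eab_iff.1 (F.eab a hap)).1
    noN := card (hNO a' a ha' (X b) (F.eab b hbp) hXb)
    noM := card (hNO b' b hb' (X a) (F.eab a hap) hXa) }

/-- (G1): a critical pair has `X_a ≰ N_a C(X_b)` -/
def TA (Z : Fin 2 → Subgroup G) (X : Subgroup G → Subgroup G) : Prop :=
  ∀ d a b, CX Z X d a b → ¬ X a ≤ NN Z a ⊔ (X a ⊓ centralizer (X b : Set G))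

/-- THEOREM C for 2-subgroups gives `TA` -/
theorem ta_of (P : PP Z U) (F : XF Z X) (hN : NobX Z X) (hti : TIp Z) (hNO : NoP Z) (hG : ThmC2 Z X) : TA Z X := by
  intro d a b h hle
  obtain ⟨a', b', ha', hb', hXa, hXb⟩ := h.ends P F
  have hc := crQ P F hN hti hNO h
  have hYN := hc.YnN
  have h1 : ∀ x ∈ X a, ∀ y ∈ X b, x * y * x⁻¹ * y⁻¹ ∈ NN Z a := by
    intro x hx y hy
    obtain ⟨n, hn, c, hc', rfl⟩ := exists_mul_of_comm (V := NN Z a) (D := X a ⊓ centralizer (X b : Set G))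
      ((F.NX a (PP.pth_pt h.pth)).trans ((eab_iff.1 (F.eab a (PP.pth_pt h.pth))).1.trans
        (centralizer_le inf_le_left))) (hle hx)
    have e1 : y * c = c * y := mem_centralizer_iff.1 hc'.2 y hy
    have e2 : n * c * y * (n * c)⁻¹ * y⁻¹ = n * (y * n⁻¹ * y⁻¹) := by
      calc n * c * y * (n * c)⁻¹ * y⁻¹ = n * (c * y) * c⁻¹ * n⁻¹ * y⁻¹ := by group
        _ = n * (y * c) * c⁻¹ * n⁻¹ * y⁻¹ := by rw [e1]
        _ = _ := by group
    rw [e2]
    exact mul_mem hn ((mem_normalizer_iff.1 (hYN hy) _).1 (inv_mem hn))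
  have h3 : X b ≤ centralizer (NN Z a : Set G) :=
    hG a (PP.pth_pt h.pth) (X b) (MinSimple.VModule.o2_isPGroup _ |>.to_le hXb)
      (hXb.trans ((P.QQ_le_cent ha'.pt).trans (centralizer_le ha'.le_NN))) h1
  apply h.ne
  refine fun x hx => ?_
  obtain ⟨n, hn, c, hc', rfl⟩ := exists_mul_of_comm (V := NN Z a) (D := X a ⊓ centralizer (X b : Set G))
    ((F.NX a (PP.pth_pt h.pth)).trans ((eab_iff.1 (F.eab a (PP.pth_pt h.pth))).1.trans
      (centralizer_le inf_le_left))) (hle hx)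
  exact mul_mem (comm_symm h3 hn) hc'.2

/-- **THE REDUCTION**: some `m ∈ C_{N_b}(N_a)`, in `Q_a`, moves `X_a`. -/
theorem redX (P : PP Z U) (F : XF Z X) (hN : NobX Z X) (hti : TIp Z) (hNO : NoP Z) (hG : TA Z X)
    (h : CX Z X d a b) : ∃ m ∈ NN Z b ⊓ centralizer (NN Z a : Set G), m ∈ QQ a ∧ m ∉ centralizer (X a : Set G) ∧
      X a ≤ normalizer (NN Z b : Set G) := by
  obtain ⟨a', b', ha', hb', hXa, hXb⟩ := h.ends P F
  have hc := crQ P F hN hti hNO h
  obtain ⟨m, hm, hmX⟩ := hc.dich.resolve_left (hG d a b h)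
  have hQ : X b ⊓ centralizer (NN Z a : Set G) ≤ QQ a :=
    P.f3 ha'.symm (inf_le_left.trans hXb) inf_le_right
  exact ⟨m, hm, hQ ⟨F.NX b (PP.pth_pt' h.pth) hm.1, hm.2⟩, hmX, hc.XnM⟩

/-- **THE REDUCTION** (TEXT Q4 #20474 (2)). -/
theorem redQ (P : PP Z U) (F : XF Z (XW Z U)) (hN : NobX Z (XW Z U)) (hti : TIp Z) (hNO : NoP Z)
    (hG : TA Z (XW Z U)) (hS : Sur Z U) (h : CX Z (XW Z U) d a b) :
    a ≤ NN Z b ∧ ∃ m ∈ NN Z b ⊓ centralizer (NN Z a : Set G), ∃ l, LnOn Z U a l ∧ m ∉ centralizer (l : Set G) := by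
  obtain ⟨m, hm, hmQ, hmX, hn⟩ := redX P F hN hti hNO hG h
  obtain ⟨l, hl, hml⟩ : ∃ l, LnOn Z U a l ∧ m ∉ centralizer (l : Set G) := by
    by_contra hcon
    push Not at hcon
    apply hmX
    have h1 : XW Z U a ≤ centralizer ({m} : Set G) := by
      refine sup_le (fun n hn => ?_) (iSup_le fun l n hn => ?_)
      · exact mem_centralizer_singleton_iff.2 (mem_centralizer_iff.1 hm.2 n hn)
      · exact mem_centralizer_singleton_iff.2 (mem_centralizer_iff.1 (hcon l l.2) n hn)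
    exact mem_centralizer_iff.2 fun x hx => mem_centralizer_singleton_iff.1 (h1 hx)
  refine ⟨fun z hz => ?_, m, hm, l, hl, hml⟩
  obtain ⟨x, hx, e⟩ := hS.ln hl hmQ hml hz
  rw [← e]
  exact mul_mem ((mem_normalizer_iff.1 (hn (ln_le_XW hl hx)) m).1 hm.1) (inv_mem hm.1)

/-- the only points in `N_u ∩ N_b`, `u ~ b`, are `u` and `b` -/
def Dis (Z : Fin 2 → Subgroup G) : Prop :=
  ∀ a u b : Subgroup G, Adj Z u b → IsPt Z a → a ≤ NN Z u → a ≤ NN Z b → a = u ∨ a = b

/-- `X`-distance `2` is impossible -/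
theorem false_of_twoQ (P : PP Z U) (F : XF Z (XW Z U)) (hN : NobX Z (XW Z U)) (hti : TIp Z) (hNO : NoP Z)
    (hG : TA Z (XW Z U)) (hS : Sur Z U) (hdis : Dis Z) (h : CX Z (XW Z U) 1 a b) : False := by
  have h1 := (redQ P F hN hti hNO hG hS h).1
  have h2 := h.pth
  have hap : IsPt Z a := PP.pth_pt h2
  cases h2 with
  | @succ _ _ u _ h3 h4 =>
    cases h3 with
    | @succ _ _ v _ h5 h6 =>
      cases h5 with
      | zero h7 =>
        rcases hdis a u b h4 hap h6.symm.le_NN h1 with h8 | h8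
        · subst h8
          exact h.ne (h.com 1 le_rfl _ _ (PP.pth_one h4))
        · subst h8
          exact h.ne (eab_iff.1 (F.eab a hap)).1

/-- `X`-distance `1` is impossible if `X_a` centralises `N_u`, `u ~ a` -/
theorem false_of_oneQ (P : PP Z U) (F : XF Z (XW Z U)) (hN : NobX Z (XW Z U)) (hti : TIp Z) (hNO : NoP Z)
    (hG : TA Z (XW Z U)) (hPC : ∀ i, XW Z U (Z i) ≤ centralizer (NN Z (Z (i + 1)) : Set G))
    (h : CX Z (XW Z U) 0 a b) : False := by
  obtain ⟨m, hm, -, hmX, -⟩ := redX P F hN hti hNO hG h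
  have h2 := h.pth
  cases h2 with
  | @succ _ _ u _ h3 h4 =>
    cases h3 with
    | zero h5 =>
      obtain ⟨i, k, rfl, rfl⟩ := h4
      apply hmX
      have h6 := conj_le_centralizer (g := k) (hPC i)
      rw [← XW_conj, ← NN_conj] at h6
      exact comm_symm h6 hm.1

/-- (0.2): a point meets `Z 0 ⊔ Z 1` in elements of `Z 0 ∪ Z 1` -/
def Fus2 (Z : Fin 2 → Subgroup G) : Prop :=
  ∀ a : Subgroup G, IsPt Z a → ∀ x ∈ a, x ∈ Z 0 ⊔ Z 1 → x ∈ Z 0 ∨ x ∈ Z 1

omit [Finite G] in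
/-- (4) and (0.2) give `Dis` -/
theorem hdis_of (P : PP Z U) (hti : TIp Z) (h4 : NN Z (Z 0) ⊓ NN Z (Z 1) ≤ Z 0 ⊔ Z 1) (h02 : Fus2 Z) : Dis Z := by
  have key : ∀ a : Subgroup G, IsPt Z a → a ≤ NN Z (Z 0) → a ≤ NN Z (Z 1) → a = Z 0 ∨ a = Z 1 := by
    intro a ha h0 h1
    obtain ⟨x, hxa, hx1⟩ := a.bot_or_exists_ne_one.resolve_left (P.pt_ne ha)
    rcases h02 a ha x hxa (h4 ⟨h0 hxa, h1 hxa⟩) with h2 | h2
    · left
      by_contra hne
      exact hx1 (ti_one hti ha (isPt Z 0) hne hxa h2)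
    · right
      by_contra hne
      exact hx1 (ti_one hti ha (isPt Z 1) hne hxa h2)
  rintro a _ _ ⟨i, k, rfl, rfl⟩ ha h0 h1
  have e0 : ∀ j, a ≤ NN Z (MulAut.conj k • Z j) → MulAut.conj k⁻¹ • a ≤ NN Z (Z j) := by
    intro j hj
    rw [NN_conj] at hj
    have h5 := conj_le_iff (g := k⁻¹) |>.2 hj
    rwa [inv_conj_conj] at h5
  have e1 : ∀ j, MulAut.conj k⁻¹ • a = Z j → a = MulAut.conj k • Z j := by
    intro j hj
    rw [← hj, conj_inv_conj]
  have h0' := e0 _ h0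
  have h1' := e0 _ h1
  have hi : i = 0 ∨ i = 1 := by fin_cases i <;> simp
  rcases hi with rfl | rfl
  · exact (key _ (ha.conj k⁻¹) h0' h1').imp (e1 0) (e1 1)
  · exact ((key _ (ha.conj k⁻¹) h1' h0').imp (e1 0) (e1 1)).symm

end frame

/-- **TEXT W2 (8)**: PC, THEOREM I and (G1) are contradictory. -/
theorem false_of_pc [Finite G] {Z U : Fin 2 → Subgroup G} (P : PP Z U) (hT : Tr Z U) (hti : TIp Z) (hpts : Pts Z U)
    (hU : ∀ i, IsElementaryAbelian 2 (U i)) (hR : RtU Z U)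
    (hab : ∀ i, IsElementaryAbelian 2 (XW Z U (Z i))) (hle : ∀ i, XW Z U (Z i) ≤ QQ (Z i))
    (hNO : NoP Z) (hG : ThmC2 Z (XW Z U)) (hI : NN Z (Z 0) ⊓ NN Z (Z 1) ≤ Z 0 ⊔ Z 1) (h02 : Fus2 Z)
    (hPC : ∀ i, XW Z U (Z i) ≤ centralizer (NN Z (Z (i + 1)) : Set G)) : False := by
  have F := xf P hab hle
  have hN := nobX_of P (nobU_of P hR)
  have hTA := ta_of P F hN hti hNO hG
  obtain ⟨d, a, b, hd, hp, hne, hcom⟩ := exists_least P hab hle hN hNO hG hti
    (fixN_of P hT hti hpts hU fun i => (hR i).2.2)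
  have h : CX Z (XW Z U) d a b := ⟨hp, hne, hcom⟩
  have hd' : d = 0 ∨ d = 1 := by omega
  rcases hd' with rfl | rfl
  · exact false_of_oneQ P F hN hti hNO hTA hPC h
  · exact false_of_twoQ P F hN hti hNO hTA (sur_of P hR) (hdis_of P hti hI h02) h

end Cfsg.Agent.Omega.OM.PT
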