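import Cfsg.Agent.Omega.OM.PG.ExactQ

/-!
# Partner points and lines, two types, no swap (helper918, TEXT W2 #24006; port of `OM/PG/Base.lean`)

Points are the conjugates of `Z 0` and of `Z 1` (of arbitrary orders), lines the conjugates of `U 0` and of `U 1`.

* `Adj Z a u`: `(a, u)` is conjugate to `(Z i, Z (i + 1))`, `i : Fin 2`; `NN Z a = ⟨u : u ~ a⟩`;
  `LnOn Z U a l`: `(a, l)` is conjugate to `(Z i, U i)`;
* `PP Z U` : the axioms; `PP.con`, `PP.con_ln` : `N_G(a)` is transitive on the neighbours and on the lines of `a`;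
* `PP.f3`, `PP.lemP`, `MM`, `XF`, `XW`.
-/

set_option autoImplicit false
set_option linter.unusedSectionVars false

namespace Cfsg.Agent.Omega.OM.PT

open Subgroup Cfsg Cfsg.Agent.ZN Cfsg.Agent.Omega.MinPar
open Cfsg.Agent.Omega.OM.PG (HH QQ HH_conj QQ_conj conj_inv_conj inv_conj_conj)
open Cfsg.Agent.Omega.NO3S.EThree.ExactA (eab_iff eab_sup eab_mono)
open Cfsg.Agent.Omega.NoFF.Basic (conj_conj mem_conj conj_le_iff conj_le_centralizer comm_symm comm_mono)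
open Cfsg.Agent.Omega.NOThreeL.Pair (conj_eq_of_mem)
open scoped Pointwise

universe u

variable {G : Type u} [Group G]

theorem add2 (i : Fin 2) : i + 1 + 1 = i := by fin_cases i <;> rfl

theorem eq_or (i j : Fin 2) : j = i ∨ j = i + 1 := by fin_cases i <;> fin_cases j <;> simp

/-- `a` is a point. -/
def IsPt (Z : Fin 2 → Subgroup G) (a : Subgroup G) : Prop := ∃ (i : Fin 2) (k : G), a = MulAut.conj k • Z i

/-- `a ~ u` -/
def Adj (Z : Fin 2 → Subgroup G) (a u : Subgroup G) : Prop :=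
  ∃ (i : Fin 2) (k : G), a = MulAut.conj k • Z i ∧ u = MulAut.conj k • Z (i + 1)

/-- `l` is a line on the point `a`. -/
def LnOn (Z U : Fin 2 → Subgroup G) (a l : Subgroup G) : Prop :=
  ∃ (i : Fin 2) (k : G), a = MulAut.conj k • Z i ∧ l = MulAut.conj k • U i

/-- `N_a = ⟨u : u ~ a⟩` -/
def NN (Z : Fin 2 → Subgroup G) (a : Subgroup G) : Subgroup G := sSup {u | Adj Z a u}

/-- `F_a = C_{N_G(a)}(N_a)` -/
abbrev FF (Z : Fin 2 → Subgroup G) (a : Subgroup G) : Subgroup G := HH a ⊓ centralizer (NN Z a : Set G)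

/-- `N_a` and `N_b` commute. -/
abbrev Com (Z : Fin 2 → Subgroup G) (a b : Subgroup G) : Prop := NN Z a ≤ centralizer (NN Z b : Set G)

section conj

variable {Z U : Fin 2 → Subgroup G} {a u l : Subgroup G}

theorem Com.symm {a b : Subgroup G} (h : Com Z a b) : Com Z b a := comm_symm h

theorem isPt (Z : Fin 2 → Subgroup G) (i : Fin 2) : IsPt Z (Z i) := ⟨i, 1, by rw [map_one, one_smul]⟩

theorem adj (Z : Fin 2 → Subgroup G) (i : Fin 2) : Adj Z (Z i) (Z (i + 1)) :=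
  ⟨i, 1, by rw [map_one, one_smul], by rw [map_one, one_smul]⟩

theorem lnOn (Z U : Fin 2 → Subgroup G) (i : Fin 2) : LnOn Z U (Z i) (U i) :=
  ⟨i, 1, by rw [map_one, one_smul], by rw [map_one, one_smul]⟩

theorem IsPt.conj (h : IsPt Z a) (g : G) : IsPt Z (MulAut.conj g • a) := by
  obtain ⟨i, k, rfl⟩ := h
  exact ⟨i, g * k, conj_conj _ _ _⟩

theorem Adj.conj (h : Adj Z a u) (g : G) : Adj Z (MulAut.conj g • a) (MulAut.conj g • u) := by
  obtain ⟨i, k, rfl, rfl⟩ := h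
  exact ⟨i, g * k, conj_conj _ _ _, conj_conj _ _ _⟩

theorem LnOn.conj (h : LnOn Z U a l) (g : G) : LnOn Z U (MulAut.conj g • a) (MulAut.conj g • l) := by
  obtain ⟨i, k, rfl, rfl⟩ := h
  exact ⟨i, g * k, conj_conj _ _ _, conj_conj _ _ _⟩

theorem Adj.pt (h : Adj Z a u) : IsPt Z a := by
  obtain ⟨i, k, rfl, -⟩ := h
  exact ⟨i, k, rfl⟩

theorem LnOn.pt (h : LnOn Z U a l) : IsPt Z a := by
  obtain ⟨i, k, rfl, -⟩ := h
  exact ⟨i, k, rfl⟩

theorem Adj.symm (h : Adj Z a u) : Adj Z u a := by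
  obtain ⟨i, k, rfl, rfl⟩ := h
  exact ⟨i + 1, k, rfl, by rw [add2]⟩

theorem Adj.pt' (h : Adj Z a u) : IsPt Z u := h.symm.pt

theorem IsPt.exists_adj (h : IsPt Z a) : ∃ u, Adj Z a u := by
  obtain ⟨i, k, rfl⟩ := h
  exact ⟨_, (adj Z i).conj k⟩

theorem Adj.le_NN (h : Adj Z a u) : u ≤ NN Z a := le_sSup h

theorem NN_conj (g : G) (a : Subgroup G) : NN Z (MulAut.conj g • a) = MulAut.conj g • NN Z a := by
  have key : ∀ (g : G) (a : Subgroup G), MulAut.conj g • NN Z a ≤ NN Z (MulAut.conj g • a) := by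
    intro g a
    have h1 : NN Z a ≤ MulAut.conj g⁻¹ • NN Z (MulAut.conj g • a) := by
      refine sSup_le fun u hu => ?_
      have h2 := (Adj.conj hu g).le_NN
      have h3 := conj_le_iff (g := g⁻¹) |>.2 h2
      rwa [inv_conj_conj] at h3
    have h3 := conj_le_iff (g := g) |>.2 h1
    rwa [conj_inv_conj] at h3
  refine le_antisymm ?_ (key g a)
  have h1 := key g⁻¹ (MulAut.conj g • a)
  rw [inv_conj_conj] at h1
  have h3 := conj_le_iff (g := g) |>.2 h1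
  rwa [conj_inv_conj] at h3

end conj

/-! ### The axioms -/

/-- **Partner points and partner lines of two types.** -/
structure PP (Z U : Fin 2 → Subgroup G) : Prop where
  /-- if `Z 0` and `Z 1` are conjugate, the two types are exchanged by an element -/
  fus : ∀ (i : Fin 2) (k : G), MulAut.conj k • Z i = Z (i + 1) →
    ∃ s : G, ∀ j, MulAut.conj s • Z j = Z (j + 1) ∧ MulAut.conj s • U j = U (j + 1)
  ZU : ∀ i, Z i ≤ U i
  UN : ∀ i, U i ≤ NN Z (Z (i + 1))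
  sq : ∀ i, ∀ x ∈ Z i, x ^ 2 = 1
  ne : ∀ i, Z i ≠ ⊥
  N_le_Q : ∀ i, NN Z (Z i) ≤ QQ (Z i)
  Q_le_cent : ∀ i, QQ (Z i) ≤ centralizer (NN Z (Z i) : Set G)
  UQ : ∀ i, ∀ x ∈ U i, ∀ y ∈ QQ (Z i), x * y * x⁻¹ * y⁻¹ ∈ Z i
  nonLoc : NonLoc (HH (Z 0)) (HH (Z 1))

/-- Paths of length `n`. -/
inductive Pth (Z : Fin 2 → Subgroup G) : ℕ → Subgroup G → Subgroup G → Prop
  | zero {a : Subgroup G} (h : IsPt Z a) : Pth Z 0 a a
  | succ {n : ℕ} {a b c : Subgroup G} (h : Pth Z n a b) (h' : Adj Z b c) : Pth Z (n + 1) a c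

namespace PP

variable {Z U : Fin 2 → Subgroup G} (P : PP Z U)

include P

theorem nonLoc' (i : Fin 2) : NonLoc (HH (Z i)) (HH (Z (i + 1))) := by
  fin_cases i
  · exact P.nonLoc
  · exact fun R hR h1 h2 => P.nonLoc R hR h2 h1

/-- two pairs `(Z i, Z (i+1), U i)` over the same point -/
theorem con_aux {i j : Fin 2} {k l : G} (h : MulAut.conj k • Z i = MulAut.conj l • Z j) :
    ∃ g : G, MulAut.conj g • (MulAut.conj k • Z i) = MulAut.conj l • Z j ∧
      MulAut.conj g • (MulAut.conj k • Z (i + 1)) = MulAut.conj l • Z (j + 1) ∧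
      MulAut.conj g • (MulAut.conj k • U i) = MulAut.conj l • U j ∧
      MulAut.conj g • (MulAut.conj k • U (i + 1)) = MulAut.conj l • U (j + 1) := by
  have e : ∀ (m : G) (A : Subgroup G), MulAut.conj (l * m * k⁻¹) • (MulAut.conj k • A) =
      MulAut.conj l • (MulAut.conj m • A) := by
    intro m A
    rw [conj_conj, conj_conj, mul_assoc, mul_assoc, inv_mul_cancel, mul_one]
  rcases eq_or i j with rfl | rfl
  · refine ⟨l * 1 * k⁻¹, ?_, ?_, ?_, ?_⟩ <;> rw [e, map_one, one_smul]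
  · have h1 : MulAut.conj (l⁻¹ * k) • Z i = Z (i + 1) := by
      rw [← conj_conj, h, inv_conj_conj]
    obtain ⟨s, hs⟩ := P.fus i _ h1
    refine ⟨l * s * k⁻¹, ?_, ?_, ?_, ?_⟩
    · rw [e, (hs _).1]
    · rw [e, (hs _).1]
    · rw [e, (hs _).2]
    · rw [e, (hs _).2]

/-- `N_G(a)` is transitive on the neighbours of `a` -/
theorem con {a u u' : Subgroup G} (h : Adj Z a u) (h' : Adj Z a u') :
    ∃ g : G, MulAut.conj g • a = a ∧ MulAut.conj g • u = u' := by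
  obtain ⟨i, k, h1, rfl⟩ := h
  obtain ⟨j, l, h2, rfl⟩ := h'
  obtain ⟨g, hg1, hg2, -, -⟩ := P.con_aux (i := i) (j := j) (k := k) (l := l) (by rw [← h1, ← h2])
  exact ⟨g, by rw [← h1, ← h2] at hg1; exact hg1, hg2⟩

/-- `N_G(a)` is transitive on the lines of `a` -/
theorem con_ln {a l l' : Subgroup G} (h : LnOn Z U a l) (h' : LnOn Z U a l') :
    ∃ g : G, MulAut.conj g • a = a ∧ MulAut.conj g • l = l' := by
  obtain ⟨i, k, h1, rfl⟩ := h
  obtain ⟨j, m, h2, rfl⟩ := h'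
  obtain ⟨g, hg1, -, hg2, -⟩ := P.con_aux (i := i) (j := j) (k := k) (l := m) (by rw [← h1, ← h2])
  exact ⟨g, by rw [← h1, ← h2] at hg1; exact hg1, hg2⟩

theorem NN_le_QQ {a : Subgroup G} (h : IsPt Z a) : NN Z a ≤ QQ a := by
  obtain ⟨i, k, rfl⟩ := h
  rw [NN_conj, QQ_conj]
  exact conj_le_iff.2 (P.N_le_Q i)

theorem QQ_le_cent {a : Subgroup G} (h : IsPt Z a) : QQ a ≤ centralizer (NN Z a : Set G) := by
  obtain ⟨i, k, rfl⟩ := h
  rw [NN_conj, QQ_conj]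
  exact conj_le_centralizer (P.Q_le_cent i)

theorem NN_comm {a : Subgroup G} (h : IsPt Z a) : Com Z a a := (P.NN_le_QQ h).trans (P.QQ_le_cent h)

/-- `a ~ u`: `Q_u` centralises `a`. -/
theorem QQ_le_cent_of_adj {a u : Subgroup G} (h : Adj Z a u) : QQ u ≤ centralizer (a : Set G) :=
  (P.QQ_le_cent h.pt').trans (centralizer_le h.symm.le_NN)

omit P in
theorem cent_le_HH (a : Subgroup G) : centralizer (a : Set G) ≤ HH a := centralizer_le_normalizer _

theorem QQ_le_HH {a u : Subgroup G} (h : Adj Z a u) : QQ u ≤ HH a :=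
  (P.QQ_le_cent_of_adj h).trans (cent_le_HH a)

theorem FF_le_HH {a u : Subgroup G} (h : Adj Z a u) : FF Z a ≤ HH u :=
  inf_le_right.trans ((centralizer_le h.le_NN).trans (cent_le_HH u))

omit P in
theorem HH_le_NN (a : Subgroup G) : HH a ≤ normalizer (NN Z a : Set G) := by
  intro g hg
  have h0 : MulAut.conj g • a = a := conj_eq_of_mem hg
  refine ChoiceBase.mem_normalizer_iff_cj.2 ?_
  change MulAut.conj g • NN Z a = NN Z a
  rw [← NN_conj, h0]

omit P in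
theorem HH_le_FF (a : Subgroup G) : HH a ≤ normalizer (FF Z a : Set G) :=
  NO3L.LemP.le_normalizer_inf le_normalizer
    ((HH_le_NN a).trans (NO3L.LemP.normalizer_le_normalizer_cent (NN Z a)))

/-- **(f3)** -/
theorem f3 {a u E : Subgroup G} (h : Adj Z a u) (hE : E ≤ QQ u) (hc : E ≤ centralizer (NN Z a : Set G)) :
    E ≤ QQ a := by
  have h1 : E ≤ QQ u ⊓ FF Z a := le_inf hE (le_inf (hE.trans (P.QQ_le_HH h)) hc)
  have h2 : QQ u ⊓ FF Z a ≤ o2 (FF Z a) := by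
    refine MinSimple.VModule.le_o2 inf_le_right ((MinSimple.VModule.o2_isPGroup _).to_le inf_le_left) ?_
    refine NO3L.LemP.le_normalizer_inf ?_ le_normalizer
    exact (P.FF_le_HH h).trans (MinSimple.VModule.le_normalizer_o2 _)
  have h3 : o2 (FF Z a) ≤ QQ a := by
    refine MinSimple.VModule.le_o2 ((MinSimple.VModule.o2_le _).trans inf_le_left) (MinSimple.VModule.o2_isPGroup _) ?_
    exact (HH_le_FF a).trans (Cfsg.Agent.Omega.normalizer_le_normalizer_o2' _)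
  exact h1.trans (h2.trans h3)

/-! ### Paths -/

omit P in
theorem pth_pt {n : ℕ} {a b : Subgroup G} (h : Pth Z n a b) : IsPt Z a := by
  induction h with
  | zero h => exact h
  | succ _ _ ih => exact ih

omit P in
theorem pth_pt' {n : ℕ} {a b : Subgroup G} (h : Pth Z n a b) : IsPt Z b := by
  cases h with
  | zero h => exact h
  | succ _ h' => exact h'.pt'

omit P in
theorem pth_cons {n : ℕ} {a b c : Subgroup G} (h : Adj Z a b) (h' : Pth Z n b c) : Pth Z (n + 1) a c := by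
  induction h' with
  | zero _ => exact Pth.succ (Pth.zero h.pt) h
  | succ _ h1 ih => exact Pth.succ (ih h) h1

omit P in
theorem pth_symm {n : ℕ} {a b : Subgroup G} (h : Pth Z n a b) : Pth Z n b a := by
  induction h with
  | zero h => exact Pth.zero h
  | succ _ h1 ih => exact pth_cons h1.symm ih

omit P in
theorem pth_trans {m n : ℕ} {a b c : Subgroup G} (h : Pth Z m a b) (h' : Pth Z n b c) : Pth Z (m + n) a c := by
  induction h' with
  | zero _ => exact h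
  | succ _ h1 ih => exact Pth.succ (ih h) h1

omit P in
theorem pth_one {a b : Subgroup G} (h : Adj Z a b) : Pth Z 1 a b := Pth.succ (Pth.zero h.pt) h

omit P in
theorem pth_conj {n : ℕ} {a b : Subgroup G} (h : Pth Z n a b) (g : G) :
    Pth Z n (MulAut.conj g • a) (MulAut.conj g • b) := by
  induction h with
  | zero h => exact Pth.zero (h.conj g)
  | succ _ h1 ih => exact Pth.succ ih (h1.conj g)

/-- **LEMMA P.** -/
theorem lemP {n : ℕ} (h : ∀ m ≤ n, ∀ a b, Pth Z m a b → Com Z a b) :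
    ∀ m ≤ n, ∀ x c, Pth Z m x c → NN Z x ≤ QQ c := by
  intro m
  induction m with
  | zero =>
    intro _ x c hx
    cases hx with
    | zero h0 => exact P.NN_le_QQ h0
  | succ m ih =>
    intro hm x c hx
    have h1 := h _ hm x c hx
    cases hx with
    | succ h2 h3 => exact P.f3 h3.symm (ih (by omega) _ _ h2) h1

theorem ZsqConj {a : Subgroup G} (h : IsPt Z a) : ∀ x ∈ a, x ^ 2 = 1 := by
  obtain ⟨i, k, rfl⟩ := h
  exact NoFF.Lines.Geo.conj_sq (P.sq i) k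

theorem pt_ne {a : Subgroup G} (ha : IsPt Z a) : a ≠ ⊥ := by
  obtain ⟨i, k, rfl⟩ := ha
  intro e
  apply P.ne i
  have h4 : MulAut.conj k • Z i ≤ MulAut.conj k • (⊥ : Subgroup G) := by rw [e]; exact bot_le
  exact le_bot_iff.1 (conj_le_iff.1 h4)

theorem NN_eab {a : Subgroup G} (h : IsPt Z a) : IsElementaryAbelian 2 (NN Z a) := by
  rw [eab_iff]
  refine ⟨P.NN_comm h, ?_⟩
  refine NoFF.Lines.Geo.sq_of_comm (P.NN_comm h) (ι := {u : Subgroup G // Adj Z a u}) (B := fun u => (u : Subgroup G))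
    (fun u => u.2.le_NN) ?_ fun u => P.ZsqConj u.2.pt'
  exact sSup_le fun u hu => le_iSup (fun u : {u : Subgroup G // Adj Z a u} => (u : Subgroup G)) ⟨u, hu⟩

/-- a line on `a` lies in `N_u` for some `u ~ a` -/
theorem ln_le {a l : Subgroup G} (h : LnOn Z U a l) : ∃ u, Adj Z a u ∧ l ≤ NN Z u := by
  obtain ⟨i, k, rfl, rfl⟩ := h
  refine ⟨MulAut.conj k • Z (i + 1), (adj Z i).conj k, ?_⟩
  rw [NN_conj]
  exact conj_le_iff.2 (P.UN i)

theorem pt_le_ln {a l : Subgroup G} (h : LnOn Z U a l) : a ≤ l := by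
  obtain ⟨i, k, rfl, rfl⟩ := h
  exact conj_le_iff.2 (P.ZU i)

/-- `[l, Q_a] ≤ a` -/
theorem comm_mem {a l : Subgroup G} (h : LnOn Z U a l) {x y : G} (hx : x ∈ l) (hy : y ∈ QQ a) :
    x * y * x⁻¹ * y⁻¹ ∈ a := by
  obtain ⟨i, k, rfl, rfl⟩ := h
  rw [QQ_conj] at hy
  obtain ⟨x0, hx0, rfl⟩ := hx
  obtain ⟨y0, hy0, rfl⟩ := hy
  refine ⟨x0 * y0 * x0⁻¹ * y0⁻¹, P.UQ i x0 hx0 y0 hy0, ?_⟩
  change k * (x0 * y0 * x0⁻¹ * y0⁻¹) * k⁻¹ =
    k * x0 * k⁻¹ * (k * y0 * k⁻¹) * (k * x0 * k⁻¹)⁻¹ * (k * y0 * k⁻¹)⁻¹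
  group

end PP

/-! ### The groups `M_a`, `X_a`, `Y_a` -/

/-- `M_a = ⟨N_u : u ~ a⟩` -/
def MM (Z : Fin 2 → Subgroup G) (a : Subgroup G) : Subgroup G := ⨆ u : {u : Subgroup G // Adj Z a u}, NN Z u

/-- The groups `X_a`. -/
structure XF (Z : Fin 2 → Subgroup G) (X : Subgroup G → Subgroup G) : Prop where
  conj : ∀ (g : G) (a : Subgroup G), IsPt Z a → X (MulAut.conj g • a) = MulAut.conj g • X a
  NX : ∀ a : Subgroup G, IsPt Z a → NN Z a ≤ X a
  aX : ∀ a : Subgroup G, IsPt Z a → a ≤ X a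
  XQ : ∀ a : Subgroup G, IsPt Z a → X a ≤ QQ a
  eab : ∀ a : Subgroup G, IsPt Z a → IsElementaryAbelian 2 (X a)
  com : ∀ a : Subgroup G, IsPt Z a → ∀ x ∈ X a, ∀ y ∈ QQ a, x * y * x⁻¹ * y⁻¹ ∈ a

/-- `Y_a = ⟨X_u : u ~ a⟩` -/
def YY (Z : Fin 2 → Subgroup G) (X : Subgroup G → Subgroup G) (a : Subgroup G) : Subgroup G :=
  ⨆ u : {u : Subgroup G // Adj Z a u}, X u

theorem MM_conj {Z : Fin 2 → Subgroup G} (g : G) (a : Subgroup G) :
    MM Z (MulAut.conj g • a) = MulAut.conj g • MM Z a := by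
  have key : ∀ (g : G) (a : Subgroup G), MM Z (MulAut.conj g • a) ≤ MulAut.conj g • MM Z a := by
    intro g a
    refine iSup_le ?_
    rintro ⟨u, hu⟩
    have h1 : Adj Z a (MulAut.conj g⁻¹ • u) := by
      have h2 := hu.conj g⁻¹
      rwa [inv_conj_conj] at h2
    have h2 : NN Z (MulAut.conj g⁻¹ • u) ≤ MM Z a :=
      le_iSup (fun u : {u : Subgroup G // Adj Z a u} => NN Z u) ⟨_, h1⟩
    have h3 := conj_le_iff (g := g) |>.2 h2
    rwa [← NN_conj, conj_inv_conj] at h3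
  refine le_antisymm (key g a) ?_
  have h1 := key g⁻¹ (MulAut.conj g • a)
  rw [inv_conj_conj] at h1
  have h2 := conj_le_iff (g := g) |>.2 h1
  rwa [conj_inv_conj] at h2

/-- `X_a = W_a N_a` -/
def XW (Z U : Fin 2 → Subgroup G) (a : Subgroup G) : Subgroup G :=
  NN Z a ⊔ ⨆ l : {l : Subgroup G // LnOn Z U a l}, (l : Subgroup G)

section XW

variable {Z U : Fin 2 → Subgroup G}

theorem XW_conj (g : G) (a : Subgroup G) : XW Z U (MulAut.conj g • a) = MulAut.conj g • XW Z U a := by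
  have key : ∀ (g : G) (a : Subgroup G), XW Z U (MulAut.conj g • a) ≤ MulAut.conj g • XW Z U a := by
    intro g a
    refine sup_le ?_ (iSup_le ?_)
    · rw [NN_conj]
      exact conj_le_iff.2 le_sup_left
    · rintro ⟨l, hl⟩
      have h1 : LnOn Z U a (MulAut.conj g⁻¹ • l) := by
        have h2 := hl.conj g⁻¹
        rwa [inv_conj_conj] at h2
      have h2 : MulAut.conj g⁻¹ • l ≤ XW Z U a :=
        (le_iSup (fun l : {l : Subgroup G // LnOn Z U a l} => (l : Subgroup G)) ⟨_, h1⟩).trans le_sup_right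
      have h3 := conj_le_iff (g := g) |>.2 h2
      rwa [conj_inv_conj] at h3
  refine le_antisymm (key g a) ?_
  have h1 := key g⁻¹ (MulAut.conj g • a)
  rw [inv_conj_conj] at h1
  have h2 := conj_le_iff (g := g) |>.2 h1
  rwa [conj_inv_conj] at h2

theorem ln_le_XW {a l : Subgroup G} (h : LnOn Z U a l) : l ≤ XW Z U a :=
  (le_iSup (fun l : {l : Subgroup G // LnOn Z U a l} => (l : Subgroup G)) ⟨_, h⟩).trans le_sup_right

/-- `[N_a, Q_a] = 1`, `[l, Q_a] ≤ a`: `[X_a, Q_a] ≤ a` -/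
theorem XW_com (P : PP Z U) {a : Subgroup G} (ha : IsPt Z a) (hXX : XW Z U a ≤ centralizer (XW Z U a : Set G)) :
    ∀ x ∈ XW Z U a, ∀ y ∈ QQ a, x * y * x⁻¹ * y⁻¹ ∈ a := by
  intro x hx y hy
  have haX : a ≤ XW Z U a := by
    obtain ⟨i, k, rfl⟩ := ha
    exact (P.pt_le_ln ((lnOn Z U i).conj k)).trans (ln_le_XW ((lnOn Z U i).conj k))
  let K : Subgroup G :=
    { carrier := {x | x ∈ XW Z U a ∧ x * y * x⁻¹ * y⁻¹ ∈ a}
      one_mem' := ⟨one_mem _, by simp⟩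
      mul_mem' := by
        rintro x₁ x₂ ⟨h1, h2⟩ ⟨h3, h4⟩
        refine ⟨mul_mem h1 h3, ?_⟩
        have e1 := mem_centralizer_iff.1 (hXX h1) _ (haX h4)
        have e2 : x₁ * x₂ * y * (x₁ * x₂)⁻¹ * y⁻¹ =
            x₂ * y * x₂⁻¹ * y⁻¹ * (x₁ * y * x₁⁻¹ * y⁻¹) := by
          calc x₁ * x₂ * y * (x₁ * x₂)⁻¹ * y⁻¹ =
              x₁ * (x₂ * y * x₂⁻¹ * y⁻¹) * (y * x₁⁻¹ * y⁻¹) := by group
            _ = (x₂ * y * x₂⁻¹ * y⁻¹) * x₁ * (y * x₁⁻¹ * y⁻¹) := by rw [← e1]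
            _ = _ := by group
        rw [e2]
        exact mul_mem h4 h2
      inv_mem' := by
        rintro x₁ ⟨h1, h2⟩
        refine ⟨inv_mem h1, ?_⟩
        have e1 := mem_centralizer_iff.1 (hXX (inv_mem h1)) _ (haX (inv_mem h2))
        have e2 : x₁⁻¹ * y * x₁⁻¹⁻¹ * y⁻¹ = (x₁ * y * x₁⁻¹ * y⁻¹)⁻¹ := by
          calc x₁⁻¹ * y * x₁⁻¹⁻¹ * y⁻¹ = x₁⁻¹ * (x₁ * y * x₁⁻¹ * y⁻¹)⁻¹ * x₁ := by group
            _ = (x₁ * y * x₁⁻¹ * y⁻¹)⁻¹ * x₁⁻¹ * x₁ := by rw [e1]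
            _ = _ := by group
        rw [e2]
        exact inv_mem h2 }
  have h1 : XW Z U a ≤ K := by
    refine sup_le (fun n hn => ⟨mem_sup_left hn, ?_⟩) (iSup_le fun l x hx => ⟨ln_le_XW l.2 hx, ?_⟩)
    · have e := mem_centralizer_iff.1 (P.QQ_le_cent ha hy) n hn
      rw [e]
      simp
    · exact P.comm_mem l.2 hx hy
  exact (h1 hx).2

/-- The axioms of `X_a` for `W_a N_a`. -/
theorem xf (P : PP Z U) (hab : ∀ i, IsElementaryAbelian 2 (XW Z U (Z i))) (hle : ∀ i, XW Z U (Z i) ≤ QQ (Z i)) :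
    XF Z (XW Z U) := by
  have hxx : ∀ a, IsPt Z a → IsElementaryAbelian 2 (XW Z U a) := by
    rintro _ ⟨i, k, rfl⟩
    rw [XW_conj]
    exact PG.Peel.eab_conj (hab i) k
  refine ⟨fun g a _ => XW_conj g a, fun a _ => le_sup_left, ?_, ?_, hxx, ?_⟩
  · rintro _ ⟨i, k, rfl⟩
    exact (P.pt_le_ln ((lnOn Z U i).conj k)).trans (ln_le_XW ((lnOn Z U i).conj k))
  · rintro _ ⟨i, k, rfl⟩
    rw [XW_conj, QQ_conj]
    exact conj_le_iff.2 (hle i)
  · exact fun a ha => XW_com P ha (eab_iff.1 (hxx a ha)).1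

end XW

end Cfsg.Agent.Omega.OM.PT
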